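import Cfsg.Agent.Lib.NormEven.Two
import Cfsg.Agent.Lib.ZStar.Apply
import Cfsg.Agent.Lib.ZStar.Unique
import Cfsg.Agent.Lib.Cores.Basic
import Cfsg.Agent.Lib.Transfer.Focal
import Cfsg.Agent.Lib.BSW.Two
import Cfsg.Agent.S0111
import Cfsg.Agent.S0508

/-!
Tools for simple groups whose cyclic subgroups of even order have uniform normalizers.

* `isolated_contra`, `exists_conj_mem`, `exists_conj_cent`, `central_fusion`, `mem_of_central`
* `exists_index_two_contra` : Thompson transfer in a simple group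
* `II.psl_of_dihedral` : the Brauer–Suzuki–Wall configuration
-/

set_option autoImplicit false
set_option linter.unusedSectionVars false
set_option linter.style.haveILetI false

open Subgroup

namespace Cfsg.Agent.NormEven

universe u

variable {G : Type u} [Group G] [Finite G] [IsSimpleGroup G]

/-- `G` is `PSL(2, q)` with `q > 3` and `q ≠ 4`. -/
def IsPSLTwo (G : Type u) [Group G] : Prop :=
  ∃ (F : Type) (_ : Field F) (_ : Fintype F), 3 < Fintype.card F ∧ Fintype.card F ≠ 4 ∧
    Nonempty (G ≃* Matrix.ProjectiveSpecialLinearGroup (Fin 2) F)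

theorem isolated_contra (hna : ¬ IsMulCommutative G) (T : Sylow 2 G) {x : G} (hx : orderOf x = 2)
    (hxT : x ∈ (T : Subgroup G)) (h : ∀ g : G, g * x * g⁻¹ ∈ (T : Subgroup G) → g * x * g⁻¹ = x) :
    False := by
  haveI : Fact (Nat.Prime 2) := ⟨Nat.prime_two⟩
  have hO : Cfsg.pPrimeCore 2 G = ⊥ := by
    refine (IsSimpleGroup.eq_bot_or_eq_top_of_normal _ (Cores.pPrimeCore_normal 2 G)).resolve_right
      fun htop => ?_
    have h2 := Cores.coprime_card_pPrimeCore (G := G) 2
    rw [htop, card_top] at h2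
    exact Nat.prime_two.one_lt.ne' (Nat.eq_one_of_dvd_coprimes h2 (hx ▸ orderOf_dvd_natCard x) dvd_rfl)
  have hc := ZStar.isolated_mem_center ZStar.uniqueInvolution (ZStar.isolated_of_sylow T hx hxT h) hO
  rw [SmallOrders.center_eq_bot hna] at hc
  exact Involution.ne_one hx hc

theorem exists_conj_mem (T : Sylow 2 G) {S : Subgroup G} (hS : IsPGroup 2 S) :
    ∃ g : G, ∀ x ∈ S, g * x * g⁻¹ ∈ (T : Subgroup G) := by
  haveI : Fact (Nat.Prime 2) := ⟨Nat.prime_two⟩
  obtain ⟨R, hR⟩ := hS.exists_le_sylow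
  obtain ⟨g, rfl⟩ := MulAction.exists_smul_eq G R T
  exact ⟨g, fun x hx => ⟨x, hR hx, rfl⟩⟩

theorem exists_conj_involution (T : Sylow 2 G) {x : G} (hx : orderOf x = 2) :
    ∃ g : G, g * x * g⁻¹ ∈ (T : Subgroup G) := by
  obtain ⟨g, hg⟩ := exists_conj_mem T
    (IsPGroup.of_card (n := 1) (by rw [Nat.card_zpowers, hx, pow_one]) : IsPGroup 2 (zpowers x))
  exact ⟨g, hg x (mem_zpowers x)⟩

/-- Sylow's theorem inside the centralizer of `t`. -/
theorem exists_conj_cent (T : Sylow 2 G) {t : G} (hTt : ∀ x ∈ (T : Subgroup G), Commute x t)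
    {S : Subgroup G} (hS : IsPGroup 2 S) (hSt : ∀ x ∈ S, Commute x t) :
    ∃ c : G, Commute c t ∧ ∀ x ∈ S, c * x * c⁻¹ ∈ (T : Subgroup G) := by
  haveI : Fact (Nat.Prime 2) := ⟨Nat.prime_two⟩
  set C := centralizer ({t} : Set G)
  have hTC : (T : Subgroup G) ≤ C := fun x hx => mem_centralizer_singleton_iff.2 (hTt x hx)
  have hSC : S ≤ C := fun x hx => mem_centralizer_singleton_iff.2 (hSt x hx)
  obtain ⟨Q, hQ⟩ := IsPGroup.exists_le_sylow (p := 2) (P := S.subgroupOf C)
    (hS.of_equiv (subgroupOfEquivOfLe hSC).symm)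
  obtain ⟨c, hc⟩ := MulAction.exists_smul_eq C Q (T.subtype hTC)
  refine ⟨c, mem_centralizer_singleton_iff.1 c.2, fun x hx => ?_⟩
  have hmem : c * ⟨x, hSC hx⟩ * c⁻¹ ∈ ((c • Q : Sylow 2 C) : Subgroup C) :=
    ⟨⟨x, hSC hx⟩, hQ (mem_subgroupOf.2 hx), rfl⟩
  rw [hc] at hmem
  exact hmem

/-- Burnside: conjugate central elements of `T` are conjugate in its normalizer. -/
theorem central_fusion (T : Sylow 2 G) {x y g : G} (hx : ∀ z ∈ (T : Subgroup G), Commute z x)
    (hy : ∀ z ∈ (T : Subgroup G), Commute z y) (hg : g * x * g⁻¹ = y) :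
    ∃ n ∈ normalizer ((T : Subgroup G) : Set G), n * x * n⁻¹ = y := by
  haveI : Fact (Nat.Prime 2) := ⟨Nat.prime_two⟩
  obtain ⟨n, hn, he⟩ := Transfer.exists_normalizer_conj_image T (X := {x}) (Y := {y}) (g := g)
    (fun z hz => by rw [Set.image_singleton, (hx z hz).eq, mul_inv_cancel_right])
    (fun z hz => by rw [Set.image_singleton, (hy z hz).eq, mul_inv_cancel_right])
    (by rw [Set.image_singleton, hg])
  rw [Set.image_singleton, Set.singleton_eq_singleton_iff] at he
  exact ⟨n, hn, he⟩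

theorem mem_of_central (T : Sylow 2 G) {z : G} (hz : orderOf z = 2)
    (h : ∀ x ∈ (T : Subgroup G), Commute x z) : z ∈ (T : Subgroup G) := by
  haveI : Fact (Nat.Prime 2) := ⟨Nat.prime_two⟩
  have hp : IsPGroup 2 (zpowers z) := IsPGroup.of_card (n := 1) (by rw [Nat.card_zpowers, hz, pow_one])
  have hle : zpowers z ≤ normalizer ((T : Subgroup G) : Set G) := zpowers_le.2
    (centralizer_le_normalizer _ (mem_centralizer_iff.2 fun x hx => (h x hx).eq))
  have := T.is_maximal' (hp.to_sup_of_normal_right' T.isPGroup' hle) le_sup_right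
  exact this ▸ le_sup_left (b := (T : Subgroup G)) (mem_zpowers z)

/-- Thompson transfer. -/
theorem exists_index_two_contra (hna : ¬ IsMulCommutative G) (T : Sylow 2 G) (A : Subgroup G)
    (hA : A ≤ T) {s : G} (hs : orderOf s = 2) (hsT : s ∈ (T : Subgroup G)) (hsA : s ∉ A)
    (htwo : ∀ x ∈ (T : Subgroup G), x ∈ A ∨ x * s ∈ A) : ∃ g : G, g * s * g⁻¹ ∈ A := by
  haveI : Fact (Nat.Prime 2) := ⟨Nat.prime_two⟩
  have hrel : A.relIndex (T : Subgroup G) = 2 := by
    rw [relIndex, index_eq_two_iff]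
    refine ⟨⟨s, hsT⟩, fun b => ?_⟩
    simp only [mem_subgroupOf, Subgroup.coe_mul]
    rcases htwo b b.2 with h | h
    · exact Or.inr ⟨h, fun h' => hsA (by simpa using mul_mem (inv_mem h) h')⟩
    · exact Or.inl ⟨h, fun h' => hsA (by simpa using mul_mem (inv_mem h') h)⟩
  refine (S0111.result T A hA hrel s hs hsT hsA).resolve_left ?_
  rintro ⟨M, hMn, hMi, hsM⟩
  rcases hMn.eq_bot_or_eq_top with rfl | rfl
  · rw [index_bot] at hMi
    exact hna (haveI := isCyclic_of_prime_card hMi; IsCyclic.isMulCommutative)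
  · exact hsM (mem_top s)

variable (hII : II G)
include hII

/-- The configuration of Brauer, Suzuki and Wall. -/
theorem II.psl_of_dihedral (hna : ¬ IsMulCommutative G) (T : Sylow 2 G) (A : Subgroup G) (hA : A ≤ T)
    (hAab : ∀ x ∈ A, ∀ y ∈ A, Commute x y) {ω s : G} (hω : orderOf ω = 2) (hωA : ω ∈ A)
    (huniq : ∀ x ∈ A, orderOf x = 2 → x = ω) (hTω : ∀ x ∈ (T : Subgroup G), Commute x ω)
    (hs : orderOf s = 2) (hsT : s ∈ (T : Subgroup G)) (hsA : s ∉ A)
    (hinv : ∀ x ∈ A, s * x * s⁻¹ = x⁻¹) (htwo : ∀ x ∈ (T : Subgroup G), x ∈ A ∨ x * s ∈ A)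
    (hAK : ∀ x ∈ A, ∀ v ∈ hII.oddCentr hω, Commute x v)
    (hsK : ∀ v ∈ hII.oddCentr hω, Commute s v → v = 1)
    (hall : ∀ x y : G, orderOf x = 2 → orderOf y = 2 → IsConj x y)
    (hz : ∀ z : G, orderOf z = 2 → z ∈ (T : Subgroup G) →
      (∀ n : G, Commute n z ↔ Commute n ω) → z = ω) :
    IsPSLTwo G := by
  haveI : Fact (Nat.Prime 2) := ⟨Nat.prime_two⟩
  set K := hII.oddCentr hω
  have hsω : Commute s ω := hTω s hsT
  let B : Subgroup G :=
    { carrier := {x | ∃ a ∈ A, ∃ v ∈ K, x = a * v}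
      one_mem' := ⟨1, one_mem _, 1, one_mem _, (one_mul 1).symm⟩
      mul_mem' := by
        rintro _ _ ⟨a, ha, v, hv, rfl⟩ ⟨b, hb, w, hw, rfl⟩
        exact ⟨a * b, mul_mem ha hb, v * w, mul_mem hv hw, by
          rw [mul_assoc, ← mul_assoc v, ← (hAK b hb v hv).eq, mul_assoc, mul_assoc]⟩
      inv_mem' := by
        rintro _ ⟨a, ha, v, hv, rfl⟩
        exact ⟨a⁻¹, inv_mem ha, v⁻¹, inv_mem hv, by
          rw [mul_inv_rev, ((hAK a ha v hv).inv_inv).eq]⟩ }
  have hmemB : ∀ {x : G}, x ∈ B ↔ ∃ a ∈ A, ∃ v ∈ K, x = a * v := fun {x} => Iff.rfl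
  have hBcomm : ∀ x ∈ B, ∀ y ∈ B, x * y = y * x := by
    intro x hx y hy
    obtain ⟨a, ha, v, hv, rfl⟩ := hmemB.1 hx
    obtain ⟨b, hb, w, hw, rfl⟩ := hmemB.1 hy
    exact (((hAab a ha b hb).mul_right (hAK a ha w hw)).mul_left
      ((hAK b hb v hv).symm.mul_right (hII.oddCentr_comm hω hv hw))).eq
  -- `s` inverts `K`
  have hsinvK : ∀ v ∈ K, s * v * s⁻¹ = v⁻¹ := by
    intro v hv
    set v' := s * v * s⁻¹ with hv'
    have hv'K : v' ∈ K := zpowers_le.2 hv (hII.nm_oddCentr hω hv hsω)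
    have hfix : Commute s (v * v') := by
      show s * (v * v') = v * v' * s
      have h1 : s * v' = v * s := by
        rw [hv', Involution.inv_eq hs, ← mul_assoc, ← mul_assoc, Involution.mul_self hs, one_mul]
      have h2 : s * v = v' * s := by rw [hv']; group
      rw [← mul_assoc, h2, mul_assoc, h1, ← mul_assoc, (hII.oddCentr_comm hω hv'K hv).eq]
    exact eq_inv_of_mul_eq_one_right (hsK _ (mul_mem hv hv'K) hfix)
  have hsinvB : ∀ x ∈ B, s * x * s⁻¹ = x⁻¹ := by
    intro x hx
    obtain ⟨a, ha, v, hv, rfl⟩ := hmemB.1 hx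
    rw [show s * (a * v) * s⁻¹ = (s * a * s⁻¹) * (s * v * s⁻¹) by group, hinv a ha, hsinvK v hv,
      (hAK a ha v hv).eq, mul_inv_rev, ((hAK a ha v hv).inv_inv).eq]
  -- the normalizers of the non-trivial elements of `B`
  have hnm : ∀ x ∈ B, x ≠ 1 → ∀ n : G, Nm x n ↔ Commute n ω := by
    intro x hx hx1 n
    obtain ⟨a, ha, v, hv, rfl⟩ := hmemB.1 hx
    rcases eq_or_ne a 1 with rfl | ha1
    · rw [one_mul] at hx1 ⊢
      exact hII.nm_odd hv.1 hx1 hω hv.2 n
    · have hae : Even (orderOf a) := even_of_mem T.isPGroup' (hA ha) ha1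
      have haω : om a = ω := huniq _ (zpowers_le.2 ha (om_mem a)) (orderOf_om hae)
      have hord : orderOf (a * v) = orderOf a * orderOf v := by
        refine (hAK a ha v hv).orderOf_mul_eq_mul_orderOf_of_coprime ?_
        obtain ⟨k, hk⟩ := exists_two_pow T.isPGroup' (hA ha)
        rw [hk]; exact Nat.Coprime.pow_left k hv.1.coprime_two_left
      have hωmem : ω ∈ zpowers (a * v) := by
        refine ⟨((orderOf v * (orderOf a / 2) : ℕ) : ℤ), ?_⟩
        show (a * v) ^ ((orderOf v * (orderOf a / 2) : ℕ) : ℤ) = ω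
        rw [zpow_natCast, (hAK a ha v hv).mul_pow, pow_mul v, pow_orderOf_eq_one, one_pow, mul_one,
          mul_comm, pow_mul, show a ^ (orderOf a / 2) = ω from haω]
        obtain ⟨m, hm⟩ := hv.1
        rw [hm, pow_succ, pow_mul, sq, Involution.mul_self hω, one_pow, one_mul]
      exact hII.nm_iff (by rw [hord]; exact hae.mul_right _) hω hωmem (mem_zpowers _) hx1 n
  have hωB : ω ∈ B := hmemB.2 ⟨ω, hωA, 1, one_mem _, (mul_one ω).symm⟩
  have hBω : ∀ x ∈ B, Commute x ω := fun x hx => hBcomm x hx ω hωB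
  have h : BSW.Hyp ω s B :=
    { ht := hω
      hs := hs
      comm := hBcomm
      le_cent := fun x hx => BSW.mem_cent.2 (hBω x hx)
      t_mem := hωB
      s_mem := BSW.mem_cent.2 hsω
      s_not := fun hsB => by
        obtain ⟨a, ha, v, hv, e⟩ := hmemB.1 hsB
        have h1 : v = a⁻¹ * s := by rw [e]; group
        have hvT : v ∈ (T : Subgroup G) := h1 ▸ mul_mem (inv_mem (hA ha)) hsT
        rcases eq_or_ne v 1 with rfl | hv1
        · exact hsA (by rw [e, mul_one]; exact ha)
        · exact Nat.not_even_iff_odd.2 hv.1 (even_of_mem T.isPGroup' hvT hv1)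
      cent_le := fun g hg => by
        obtain ⟨r, hr, v, hv, rfl⟩ := hII.cent_decomp hω T hTω (BSW.mem_cent.1 hg)
        have hvB : v ∈ B := hmemB.2 ⟨1, one_mem _, v, hv, (one_mul v).symm⟩
        refine mul_mem ?_ (le_sup_left (b := zpowers s) hvB)
        rcases htwo r hr with h | h
        · exact le_sup_left (b := zpowers s) (hmemB.2 ⟨r, h, 1, one_mem _, (mul_one r).symm⟩)
        · rw [show r = r * s * s⁻¹ by group]
          exact mul_mem (le_sup_left (b := zpowers s) (hmemB.2 ⟨_, h, 1, one_mem _, (mul_one _).symm⟩))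
            (inv_mem (le_sup_right (a := B) (mem_zpowers s)))
      fix := fun x hx hc => by
        obtain ⟨a, ha, v, hv, rfl⟩ := hmemB.1 hx
        have h2 : (a * v) * (a * v) = 1 := by
          have := hsinvB _ hx
          rw [hc, mul_inv_cancel_right] at this
          exact mul_eq_one_iff_eq_inv.2 this
        have hv1 : v = 1 := by
          have h3 : a * a * (v * v) = 1 := by
            rw [← h2, mul_assoc, mul_assoc, ← mul_assoc a v, ← mul_assoc v a, (hAK a ha v hv).eq]
          have h4 : v * v = (a * a)⁻¹ := eq_inv_of_mul_eq_one_right h3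
          have h5 : v * v = 1 := by
            by_contra hne
            refine Nat.not_even_iff_odd.2 (K.mul_mem hv hv).1 (even_of_mem T.isPGroup' ?_ hne)
            rw [h4]; exact inv_mem (mul_mem (hA ha) (hA ha))
          exact orderOf_eq_one_iff.1 (Nat.eq_one_of_dvd_coprimes hv.1.coprime_two_left
            (orderOf_dvd_of_pow_eq_one ((sq v).trans h5)) dvd_rfl)
        subst hv1
        rw [mul_one] at h2 ⊢
        rcases eq_or_ne a 1 with rfl | ha1
        · exact Or.inl rfl
        · exact Or.inr (huniq a ha (Involution.orderOf_of_sq h2 ha1))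
      inv := hsinvB
      ti := fun g x hx hx1 hgx => by
        refine BSW.mem_cent.2 ?_
        set w := g * ω * g⁻¹ with hw
        have hgx1 : g * x * g⁻¹ ≠ 1 := fun e => hx1 (conj_eq_one_iff.1 e)
        have hsame : ∀ n : G, Commute n w ↔ Commute n ω := fun n => by
          rw [← hnm _ hgx hgx1 n]
          have h1 : Commute n w ↔ Commute (g⁻¹ * n * g) ω := by
            rw [hw]
            constructor
            · intro h; simpa [mul_assoc] using h.map (MulAut.conj g⁻¹).toMonoidHom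
            · intro h; simpa [mul_assoc] using h.map (MulAut.conj g).toMonoidHom
          rw [h1, ← hnm x hx hx1, ← nm_map (MulAut.conj g).toMonoidHom (MulAut.conj g).injective
            (g := x) (n := g⁻¹ * n * g)]
          simp [mul_assoc]
        have hw2 : orderOf w = 2 := by rw [hw, Involution.orderOf_conj, hω]
        have hwT : w ∈ (T : Subgroup G) :=
          mem_of_central T hw2 fun y hy => (hsame y).2 (hTω y hy)
        have := hz w hw2 hwT hsame
        exact mul_inv_eq_iff_eq_mul.1 (hw ▸ this)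
      all_conj := hall }
  obtain ⟨F, iF, iF', hodd, he⟩ := S0508.equiv_of_conclusion h.conclusion
  refine ⟨F, iF, iF', ?_, fun h4 => by rw [h4] at hodd; exact absurd hodd (by decide), he⟩
  by_contra h3
  obtain ⟨e⟩ := he
  have hF : Fintype.card F = 3 := by
    have := Fintype.one_lt_card (α := F)
    rcases hodd with ⟨k, hk⟩
    omega
  have hcard := PSL2.card_psl_mul (F := F)
  rw [Nat.card_eq_fintype_card (α := F), hF] at hcard
  have hG : Nat.card G = 2 ^ 2 * 3 := by
    rw [Nat.card_congr e.toEquiv]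
    simp only [show Nat.gcd 2 (3 - 1) = 2 from rfl] at hcard
    show Nat.card (PSL2.PSL2 F) = _
    omega
  have hi := SmallOrders.index_sylow hG (by norm_num) T
  have := SmallOrders.five_le_index hna (H := (T : Subgroup G)) fun htop => by
    rw [htop, index_top] at hi; omega
  omega

end Cfsg.Agent.NormEven
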