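import Cfsg.Agent.Lib.Hamiltonian.Basic
import Cfsg.Agent.Lib.Transfer.Criteria
import Cfsg.Agent.Lib.Involution.Basic
import Cfsg.Agent.EqLemmas

/-!
Groups in which the non-trivial subgroups of a cyclic subgroup of even order have the same normalizer.

* `Nm g n` : `n` normalizes `⟨g⟩`; `II G` : the hypothesis, elementwise; `II.of_normalizers`,
  `II.subgroup`, `II.of_mulEquiv`
* `II.nm_iff`, `II.nm_odd`, `II.cent_eq` : these normalizers are centralizers of involutions
* `II.oddCentr` : the elements of odd order in the centralizer of an involution form an abelian group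
* `II.cent_decomp`, `II.isSolvable_cent`, `II.centralizes_of_odd`
-/

set_option autoImplicit false
set_option linter.unusedSectionVars false
set_option linter.style.haveILetI false

open Subgroup

namespace Cfsg.Agent.NormEven

variable {G : Type*} [Group G]

/-- `n` normalizes the cyclic subgroup generated by `g`. -/
def Nm (g n : G) : Prop := n * g * n⁻¹ ∈ zpowers g

/-- The non-trivial elements of a cyclic subgroup of even order have the same normalizer. -/
def II (G : Type*) [Group G] : Prop :=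
  ∀ g y : G, Even (orderOf g) → y ∈ zpowers g → y ≠ 1 → ∀ n : G, Nm g n ↔ Nm y n

theorem nm_of_commute {g n : G} (h : Commute n g) : Nm g n := by
  show n * g * n⁻¹ ∈ zpowers g
  rw [h.eq, mul_inv_cancel_right]; exact mem_zpowers g

theorem nm_zpow {g n : G} (h : Nm g n) {x : G} (hx : x ∈ zpowers g) : n * x * n⁻¹ ∈ zpowers g := by
  obtain ⟨k, rfl⟩ := hx
  simpa only [conj_zpow] using zpow_mem h k

theorem nm_involution {t n : G} (ht : orderOf t = 2) : Nm t n ↔ Commute n t := by
  refine ⟨fun h => ?_, nm_of_commute⟩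
  obtain ⟨k, hk⟩ := h
  replace hk : t ^ k = n * t * n⁻¹ := hk
  have hne : n * t * n⁻¹ ≠ 1 := fun e => Involution.ne_one ht (by simpa using conj_eq_one_iff.1 e)
  rcases Int.even_or_odd k with ⟨m, rfl⟩ | ⟨m, rfl⟩
  · rw [zpow_add, ← (Commute.refl t).mul_zpow, Involution.mul_self ht, one_zpow] at hk
    exact absurd hk.symm hne
  · rw [zpow_add, zpow_mul, zpow_two, zpow_one, Involution.mul_self ht, one_zpow, one_mul] at hk
    exact mul_inv_eq_iff_eq_mul.1 hk.symm

theorem mem_normalizer_iff_nm [Finite G] {g n : G} :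
    n ∈ normalizer (zpowers g : Set G) ↔ Nm g n := by
  refine ⟨fun h => (Subgroup.mem_normalizer_iff.1 h g).1 (mem_zpowers g), fun h => ?_⟩
  rw [Subgroup.mem_normalizer_iff_map_conj_eq]
  refine Subgroup.eq_of_le_of_card_ge ?_
    (le_of_eq (Subgroup.card_map_of_injective (MulAut.conj n).injective).symm)
  rintro _ ⟨x, hx, rfl⟩
  exact nm_zpow h hx

theorem II.of_normalizers [Finite G] (hii : ∀ X : Subgroup G, IsCyclic ↥X → Even (Nat.card ↥X) →
    ∀ Y : Subgroup G, Y ≤ X → Y ≠ ⊥ →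
      Subgroup.normalizer (X : Set G) = Subgroup.normalizer (Y : Set G)) : II G := by
  intro g y hg hy hy1 n
  rw [← mem_normalizer_iff_nm, ← mem_normalizer_iff_nm,
    hii (zpowers g) inferInstance (by rwa [Nat.card_zpowers]) (zpowers y) (zpowers_le.2 hy)
      (by simpa using hy1)]

theorem nm_map {H : Type*} [Group H] (f : H →* G) (hf : Function.Injective f) {g n : H} :
    Nm (f g) (f n) ↔ Nm g n := by
  refine ⟨fun ⟨k, hk⟩ => ⟨k, hf ?_⟩, fun ⟨k, hk⟩ => ⟨k, ?_⟩⟩
  · simpa using hk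
  · show f g ^ k = f n * f g * (f n)⁻¹
    rw [← map_zpow, show g ^ k = n * g * n⁻¹ from hk]; simp

theorem II.of_injective (h : II G) {H : Type*} [Group H] (f : H →* G) (hf : Function.Injective f) :
    II H := by
  intro g y hg hy hy1 n
  rw [← nm_map f hf, ← nm_map f hf (g := y)]
  refine h (f g) (f y) (by rwa [orderOf_injective f hf]) ?_ (fun e => hy1 (hf (by rw [e, map_one]))) _
  obtain ⟨k, rfl⟩ := hy
  exact ⟨k, (map_zpow f g k).symm⟩

theorem II.subgroup (h : II G) (H : Subgroup G) : II H := h.of_injective H.subtype H.subtype_injective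

theorem II.of_mulEquiv (h : II G) {H : Type*} [Group H] (e : H ≃* G) : II H :=
  h.of_injective e.toMonoidHom e.injective

variable [Finite G] (hII : II G)
include hII

/-- The normalizer of a non-trivial subgroup of a cyclic subgroup with involution `t` is `C(t)`. -/
theorem II.nm_iff {g t y : G} (hg : Even (orderOf g)) (ht : orderOf t = 2) (htg : t ∈ zpowers g)
    (hy : y ∈ zpowers g) (hy1 : y ≠ 1) (n : G) : Nm y n ↔ Commute n t := by
  rw [← hII g y hg hy hy1 n, hII g t hg htg (Involution.ne_one ht) n, nm_involution ht]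

/-- An element of odd order commuting with an involution `t` has normalizer `C(t)`. -/
theorem II.nm_odd {v t : G} (hv : Odd (orderOf v)) (hv1 : v ≠ 1) (ht : orderOf t = 2)
    (hvt : Commute v t) (n : G) : Nm v n ↔ Commute n t := by
  have hord : orderOf (t * v) = 2 * orderOf v := by
    rw [hvt.symm.orderOf_mul_eq_mul_orderOf_of_coprime (by rw [ht]; exact hv.coprime_two_left), ht]
  obtain ⟨m, hm⟩ := hv
  have htmem : t ∈ zpowers (t * v) := by
    refine ⟨((2 * m + 1 : ℕ) : ℤ), ?_⟩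
    show (t * v) ^ ((2 * m + 1 : ℕ) : ℤ) = t
    rw [zpow_natCast, hvt.symm.mul_pow, ← hm, pow_orderOf_eq_one, mul_one, hm, pow_succ, pow_mul,
      sq, Involution.mul_self ht, one_pow, one_mul]
  refine hII.nm_iff (g := t * v) ?_ ht htmem ?_ hv1 n
  · rw [hord]; exact even_two_mul _
  · refine ⟨((2 * m + 2 : ℕ) : ℤ), ?_⟩
    show (t * v) ^ ((2 * m + 2 : ℕ) : ℤ) = v
    rw [zpow_natCast, hvt.symm.mul_pow, show 2 * m + 2 = 2 * (m + 1) by omega, pow_mul, sq,
      Involution.mul_self ht, one_pow, one_mul, show 2 * (m + 1) = orderOf v + 1 by omega, pow_succ,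
      pow_orderOf_eq_one, one_mul]

/-- Two involutions commuting with the same non-trivial element of odd order have one centralizer. -/
theorem II.cent_eq {v t t' : G} (hv : Odd (orderOf v)) (hv1 : v ≠ 1) (ht : orderOf t = 2)
    (ht' : orderOf t' = 2) (hvt : Commute v t) (hvt' : Commute v t') (n : G) :
    Commute n t ↔ Commute n t' := by
  rw [← hII.nm_odd hv hv1 ht hvt, hII.nm_odd hv hv1 ht' hvt']

omit hII in
/-- Two elements normalizing each other's cyclic groups, which meet trivially, commute. -/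
theorem commute_of_nm {a b : G} (hab : Nm a b) (hba : Nm b a)
    (h : ∀ z, z ∈ zpowers a → z ∈ zpowers b → z = 1) : Commute a b := by
  have h1 : a * b * a⁻¹ * b⁻¹ ∈ zpowers b := mul_mem hba (inv_mem (mem_zpowers b))
  have h2 : a * b * a⁻¹ * b⁻¹ ∈ zpowers a := by
    rw [show a * b * a⁻¹ * b⁻¹ = a * (b * a⁻¹ * b⁻¹) by group]
    refine mul_mem (mem_zpowers a) (nm_zpow hab (inv_mem (mem_zpowers a)))
  have := h _ h2 h1
  rw [mul_inv_eq_one, mul_inv_eq_iff_eq_mul] at this
  exact this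

omit hII in
theorem eq_one_of_coprime {a b z : G} (hc : (orderOf a).Coprime (orderOf b)) (ha : z ∈ zpowers a)
    (hb : z ∈ zpowers b) : z = 1 :=
  orderOf_eq_one_iff.1 (Nat.eq_one_of_dvd_coprimes hc (orderOf_dvd_of_mem_zpowers ha)
    (orderOf_dvd_of_mem_zpowers hb))

omit hII in
theorem odd_mul {a b : G} (hab : Nm a b) (ha : Odd (orderOf a)) (hb : Odd (orderOf b)) :
    Odd (orderOf (a * b)) := by
  have hk : ∀ k : ℕ, ∃ x ∈ zpowers a, (a * b) ^ k = x * b ^ k := by
    intro k
    induction k with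
    | zero => exact ⟨1, one_mem _, by simp⟩
    | succ k ih =>
      obtain ⟨x, hx, e⟩ := ih
      refine ⟨a * (b * x * b⁻¹), mul_mem (mem_zpowers a) (nm_zpow hab hx), ?_⟩
      rw [pow_succ', e, pow_succ']; group
  obtain ⟨x, hx, e⟩ := hk (orderOf b)
  rw [pow_orderOf_eq_one, mul_one] at e
  refine (hb.mul ha).of_dvd_nat (orderOf_dvd_of_pow_eq_one ?_)
  rw [pow_mul, e, ← orderOf_dvd_iff_pow_eq_one]
  exact orderOf_dvd_of_mem_zpowers hx

/-- The elements of odd order in the centralizer of the involution `t`. -/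
def II.oddCentr {t : G} (ht : orderOf t = 2) : Subgroup G where
  carrier := {v | Odd (orderOf v) ∧ Commute v t}
  one_mem' := ⟨by simp, Commute.one_left t⟩
  mul_mem' := by
    rintro a b ⟨ha, hat⟩ ⟨hb, hbt⟩
    refine ⟨?_, hat.mul_left hbt⟩
    rcases eq_or_ne a 1 with rfl | ha1
    · rwa [one_mul]
    · exact odd_mul ((hII.nm_odd ha ha1 ht hat b).2 hbt) ha hb
  inv_mem' := by
    rintro a ⟨ha, hat⟩
    exact ⟨by rwa [orderOf_inv], hat.inv_left⟩

theorem II.mem_oddCentr {t : G} (ht : orderOf t = 2) {v : G} :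
    v ∈ hII.oddCentr ht ↔ Odd (orderOf v) ∧ Commute v t := Iff.rfl

theorem II.nm_oddCentr {t : G} (ht : orderOf t = 2) {v : G} (hv : v ∈ hII.oddCentr ht) {n : G}
    (hn : Commute n t) : Nm v n := by
  rcases eq_or_ne v 1 with rfl | hv1
  · exact nm_of_commute (Commute.one_right n)
  · exact (hII.nm_odd hv.1 hv1 ht hv.2 n).2 hn

theorem II.oddCentr_comm {t : G} (ht : orderOf t = 2) {a b : G} (ha : a ∈ hII.oddCentr ht)
    (hb : b ∈ hII.oddCentr ht) : Commute a b := by
  set K := hII.oddCentr ht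
  have hnormal : ∀ H : Subgroup K, H.Normal := fun H => by
    refine ⟨fun x hx g => ?_⟩
    have h1 : Nm x g := (nm_map K.subtype K.subtype_injective).1 (hII.nm_oddCentr ht x.2 g.2.2)
    exact zpowers_le.2 hx h1
  have hodd : ∀ x : K, Odd (orderOf x) := fun x => by rw [← Subgroup.orderOf_coe]; exact x.2.1
  -- elements of prime power order commute
  have hpp : ∀ (p q : ℕ), p.Prime → q.Prime → ∀ x y : K, (∃ k, orderOf x = p ^ k) →
      (∃ k, orderOf y = q ^ k) → Commute x y := by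
    intro p q hp hq x y hx hy
    rcases eq_or_ne p q with rfl | hne
    · haveI := Fact.mk hp
      by_contra hxy
      obtain ⟨-, x', y', hx', -, -⟩ := Hamiltonian.q8_of_not_commute hnormal hx hy hxy
      have := hodd x'
      rw [hx'] at this
      exact absurd this (by decide)
    · obtain ⟨i, hi⟩ := hx
      obtain ⟨j, hj⟩ := hy
      exact commute_of_nm (Hamiltonian.conj_mem_zpowers hnormal y x)
        (Hamiltonian.conj_mem_zpowers hnormal x y) fun z hzx hzy => eq_one_of_coprime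
          (by rw [hi, hj]; exact ((Nat.coprime_primes hp hq).2 hne).pow i j) hzx hzy
  have hfix : ∀ (x y : K) (p : ℕ), p.Prime → (∃ k, orderOf x = p ^ k) → Commute x y := by
    intro x y p hp hx
    have hy : y ∈ centralizer ({x} : Set K) := Transfer.mem_of_forall_primePow fun q hq z _ hz =>
      mem_centralizer_singleton_iff.2 (hpp q p hq hp z x hz hx).eq
    exact (mem_centralizer_singleton_iff.1 hy).symm
  have hall : (⟨b, hb⟩ : K) ∈ centralizer ({(⟨a, ha⟩ : K)} : Set K) :=
    Transfer.mem_of_forall_primePow fun q hq z _ hz =>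
      mem_centralizer_singleton_iff.2 (hfix z ⟨a, ha⟩ q hq hz).eq
  exact (congrArg Subtype.val (mem_centralizer_singleton_iff.1 hall)).symm

omit hII in
/-- The `2`-part and the odd part of an element. -/
theorem two_odd_parts (g : G) : ∃ r v : G, (∃ k, orderOf r = 2 ^ k) ∧ Odd (orderOf v) ∧ g = r * v ∧
    r ∈ zpowers g ∧ v ∈ zpowers g := by
  obtain ⟨k, m, hm, hn⟩ := Nat.exists_eq_two_pow_mul_odd (orderOf_pos g).ne'
  obtain ⟨i, j, hij⟩ : IsCoprime (m : ℤ) ((2 : ℤ) ^ k) := by
    have : Nat.Coprime m (2 ^ k) := Nat.Coprime.pow_right k hm.coprime_two_right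
    exact_mod_cast this.isCoprime
  have hg : g ^ (((2 : ℤ) ^ k) * m) = 1 := by
    rw [show ((2 : ℤ) ^ k) * m = ((orderOf g : ℕ) : ℤ) by rw [hn]; push_cast; rfl, zpow_natCast,
      pow_orderOf_eq_one]
  refine ⟨g ^ (i * m), g ^ (j * (2 : ℤ) ^ k), ?_, ?_, ?_, ⟨_, rfl⟩, ⟨_, rfl⟩⟩
  · have : (g ^ (i * (m : ℤ))) ^ (2 ^ k : ℕ) = 1 := by
      rw [← zpow_natCast, ← zpow_mul, show i * (m : ℤ) * ((2 ^ k : ℕ) : ℤ) = ((2 : ℤ) ^ k * m) * i by
        push_cast; ring, zpow_mul, hg, one_zpow]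
    obtain ⟨l, -, hl⟩ := (Nat.dvd_prime_pow Nat.prime_two).1 (orderOf_dvd_of_pow_eq_one this)
    exact ⟨l, hl⟩
  · refine hm.of_dvd_nat (orderOf_dvd_of_pow_eq_one ?_)
    rw [← zpow_natCast, ← zpow_mul, show j * (2 : ℤ) ^ k * (m : ℤ) = ((2 : ℤ) ^ k * m) * j by ring,
      zpow_mul, hg, one_zpow]
  · rw [← zpow_add, hij, zpow_one]

/-- The centralizer of `t` is a `2`-subgroup of odd index times the odd elements. -/
theorem II.cent_decomp {t : G} (ht : orderOf t = 2) (T : Sylow 2 G)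
    (hTt : ∀ x ∈ (T : Subgroup G), Commute x t) {n : G} (hn : Commute n t) :
    ∃ r ∈ (T : Subgroup G), ∃ v ∈ hII.oddCentr ht, n = r * v := by
  set C := centralizer ({t} : Set G)
  set K := hII.oddCentr ht
  have hKn : (K.subgroupOf C).Normal := ⟨fun x hx g => by
    rw [mem_subgroupOf] at hx ⊢
    refine zpowers_le.2 hx ?_
    exact hII.nm_oddCentr ht hx (mem_centralizer_singleton_iff.1 g.2)⟩
  have hTC : (T : Subgroup G) ≤ C := fun x hx => mem_centralizer_singleton_iff.2 (hTt x hx)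
  set S := (T : Subgroup G).subgroupOf C
  have hSodd : ¬ 2 ∣ S.index := fun h =>
    T.not_dvd_index (h.trans (relIndex_dvd_index_of_le hTC))
  have hq : IsPGroup 2 (↥C ⧸ K.subgroupOf C) := by
    intro x
    obtain ⟨y, rfl⟩ := QuotientGroup.mk_surjective x
    obtain ⟨r, v, ⟨k, hr⟩, hv, hy, -, hvmem⟩ := two_odd_parts y
    refine ⟨k, ?_⟩
    have hvK : v ∈ K.subgroupOf C :=
      mem_subgroupOf.2 ⟨by rwa [Subgroup.orderOf_coe], mem_centralizer_singleton_iff.1 v.2⟩
    rw [hy, QuotientGroup.mk_mul, (QuotientGroup.eq_one_iff v).2 hvK, mul_one, ← QuotientGroup.mk_pow,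
      ← hr, pow_orderOf_eq_one, QuotientGroup.mk_one]
  have htop : S ⊔ K.subgroupOf C = ⊤ := by
    rw [← index_eq_one]
    obtain ⟨i, hi⟩ := IsPGroup.iff_card.1 hq
    rw [← index_eq_card] at hi
    refine Nat.eq_one_of_dvd_coprimes
      (((Nat.prime_two.coprime_iff_not_dvd.2 hSodd).pow_left i)) ?_ (index_dvd_of_le le_sup_left)
    exact hi ▸ index_dvd_of_le le_sup_right
  have hnm : (⟨n, mem_centralizer_singleton_iff.2 hn⟩ : C) ∈ (S : Subgroup C) ⊔ K.subgroupOf C :=
    htop ▸ mem_top _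
  obtain ⟨r, hr, v, hv, e⟩ := (mem_sup_of_normal_right (s := S) (t := K.subgroupOf C)).1 hnm
  exact ⟨r, hr, v, hv, (congrArg Subtype.val e).symm⟩

theorem II.isSolvable_cent {t : G} (ht : orderOf t = 2) :
    Group.IsSolvable (centralizer ({t} : Set G)) := by
  set C := centralizer ({t} : Set G)
  set K := hII.oddCentr ht
  have hKn : (K.subgroupOf C).Normal := ⟨fun x hx g => by
    rw [mem_subgroupOf] at hx ⊢
    exact zpowers_le.2 hx (hII.nm_oddCentr ht hx (mem_centralizer_singleton_iff.1 g.2))⟩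
  haveI : Fact (Nat.Prime 2) := ⟨Nat.prime_two⟩
  have hq : IsPGroup 2 (↥C ⧸ K.subgroupOf C) := by
    intro x
    obtain ⟨y, rfl⟩ := QuotientGroup.mk_surjective x
    obtain ⟨r, v, ⟨k, hr⟩, hv, hy, -, -⟩ := two_odd_parts y
    refine ⟨k, ?_⟩
    have hvK : v ∈ K.subgroupOf C :=
      mem_subgroupOf.2 ⟨by rwa [Subgroup.orderOf_coe], mem_centralizer_singleton_iff.1 v.2⟩
    rw [hy, QuotientGroup.mk_mul, (QuotientGroup.eq_one_iff v).2 hvK, mul_one, ← QuotientGroup.mk_pow,
      ← hr, pow_orderOf_eq_one, QuotientGroup.mk_one]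
  haveI := hq.isNilpotent
  haveI : Group.IsSolvable (K.subgroupOf C) := Group.isSolvable_of_comm fun a b =>
    Subtype.ext (Subtype.ext (hII.oddCentr_comm ht a.2 b.2).eq)
  exact Group.isSolvable_of_ker_le_range (K.subgroupOf C).subtype (QuotientGroup.mk' (K.subgroupOf C)) (by simp)

/-- An element of odd order normalizing an abelian `2`-group and fixing one of its involutions
centralizes it. -/
theorem II.centralizes_of_odd {V : Subgroup G} (hVab : ∀ x ∈ V, ∀ y ∈ V, Commute x y)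
    (hV2 : IsPGroup 2 V) {y w : G} (hy : Odd (orderOf y)) (hw : orderOf w = 2) (hwV : w ∈ V)
    (hyw : Commute y w) (hn : ∀ v ∈ V, y * v * y⁻¹ ∈ V) {v : G} (hv : v ∈ V) : Commute y v := by
  rcases eq_or_ne y 1 with rfl | hy1
  · exact Commute.one_left v
  have hmem : y * v * y⁻¹ * v⁻¹ ∈ V := mul_mem (hn v hv) (inv_mem hv)
  have hmem' : y * v * y⁻¹ * v⁻¹ ∈ zpowers y := by
    rw [show y * v * y⁻¹ * v⁻¹ = y * (v * y⁻¹ * v⁻¹) by group]
    exact mul_mem (mem_zpowers y)
      (nm_zpow ((hII.nm_odd hy hy1 hw hyw v).2 (hVab v hv w hwV)) (inv_mem (mem_zpowers y)))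
  obtain ⟨k, hk⟩ := hV2 ⟨_, hmem⟩
  have h1 : orderOf (y * v * y⁻¹ * v⁻¹) ∣ 2 ^ k := orderOf_dvd_of_pow_eq_one (congrArg Subtype.val hk)
  have h2 : y * v * y⁻¹ * v⁻¹ = 1 := orderOf_eq_one_iff.1 (Nat.eq_one_of_dvd_coprimes
    (Nat.Coprime.pow_left k hy.coprime_two_left) h1 (orderOf_dvd_of_mem_zpowers hmem'))
  rw [mul_inv_eq_one, mul_inv_eq_iff_eq_mul] at h2
  exact h2

end Cfsg.Agent.NormEven
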