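import Cfsg.Agent.Lib.NormEven.Tools
import Cfsg.Agent.Lib.CentralizerTI.Simple

/-!
Simple groups with uniform even normalizers and abelian Sylow `2`-subgroups.

* `II.psl_of_same` : all involutions of `T` have one centralizer
* `II.psl_of_abelian` : such a group is `PSL(2, q)`
-/

set_option autoImplicit false
set_option linter.unusedSectionVars false
set_option linter.style.haveILetI false

open Subgroup

namespace Cfsg.Agent.NormEven

universe u

variable {G : Type u} [Group G] [Finite G] [IsSimpleGroup G] (hII : II G)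
  (hna : ¬ IsMulCommutative G) (T : Sylow 2 G)
  (hTab : ∀ x ∈ (T : Subgroup G), ∀ y ∈ (T : Subgroup G), Commute x y)
include hII hna hTab

omit hII in
theorem fixed_contra {x : G} (hx : orderOf x = 2) (hxT : x ∈ (T : Subgroup G))
    (hfix : ∀ n ∈ normalizer ((T : Subgroup G) : Set G), n * x * n⁻¹ = x) : False := by
  refine isolated_contra hna T hx hxT fun g hg => ?_
  obtain ⟨n, hn, he⟩ := central_fusion T (fun z hz => hTab z hz x hxT) (fun z hz => hTab z hz _ hg)
    (g := g) (y := g * x * g⁻¹) rfl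
  rw [← he, hfix n hn]

omit hna in
/-- An element whose involution centralizes some `v ≠ 1` of `K_t` centralizes `K_t`. -/
theorem II.commute_oddCentr {t g v : G} (ht : orderOf t = 2) (htT : t ∈ (T : Subgroup G))
    (hg : g ∈ (T : Subgroup G)) (hg1 : g ≠ 1) (hv : v ∈ hII.oddCentr ht) (hv1 : v ≠ 1)
    (hgv : Commute v (om g)) : ∀ w ∈ hII.oddCentr ht, Commute g w := by
  intro w hw
  have hge := even_of_mem T.isPGroup' hg hg1
  have hom := orderOf_om hge
  refine commute_of_nm ?_ (hII.nm_oddCentr ht hw (hTab g hg t htT)) fun z hzg hzw => ?_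
  · exact (hII.nm_iff hge hom (om_mem g) (mem_zpowers g) hg1 w).2
      ((hII.cent_eq hv.1 hv1 hom ht hgv hv.2 w).2 hw.2)
  · obtain ⟨k, hk⟩ := exists_two_pow T.isPGroup' hg
    exact eq_one_of_coprime (by rw [hk]; exact Nat.Coprime.pow_left k hw.1.coprime_two_left) hzg hzw

omit hna in
/-- An involution of `T` not centralizing `v ∈ K_t` inverts it. -/
theorem II.inverts {t y v : G} (ht : orderOf t = 2) (htT : t ∈ (T : Subgroup G)) (hy : orderOf y = 2)
    (hyT : y ∈ (T : Subgroup G)) (hv : v ∈ hII.oddCentr ht) (hyv : ¬ Commute v y) :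
    y * v * y⁻¹ = v⁻¹ := by
  set v' := y * v * y⁻¹ with hv'
  have hv'K : v' ∈ hII.oddCentr ht := zpowers_le.2 hv (hII.nm_oddCentr ht hv (hTab y hyT t htT))
  have hfix : Commute (v * v') y := by
    show v * v' * y = y * (v * v')
    have h1 : y * v' = v * y := by
      rw [hv', Involution.inv_eq hy, ← mul_assoc, ← mul_assoc, Involution.mul_self hy, one_mul]
    have h2 : y * v = v' * y := by rw [hv']; group
    symm
    rw [← mul_assoc, h2, mul_assoc, h1, ← mul_assoc, (hII.oddCentr_comm ht hv'K hv).eq]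
  by_contra hne
  have h1 : v * v' ≠ 1 := fun h => hne (eq_inv_of_mul_eq_one_right h)
  have hvv := (hII.oddCentr ht).mul_mem hv hv'K
  exact hyv ((hII.cent_eq hvv.1 h1 hy ht hfix hvv.2 v).2 hv.2)

omit hna in
theorem II.commute_mul_of_inverts {t y z v : G} (ht : orderOf t = 2) (htT : t ∈ (T : Subgroup G))
    (hy : orderOf y = 2) (hyT : y ∈ (T : Subgroup G)) (hz : orderOf z = 2)
    (hzT : z ∈ (T : Subgroup G)) (hv : v ∈ hII.oddCentr ht) (hyv : ¬ Commute v y)
    (hzv : ¬ Commute v z) : Commute v (y * z) := by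
  have h : y * z * v * (y * z)⁻¹ = v := by
    rw [show y * z * v * (y * z)⁻¹ = y * (z * v * z⁻¹) * y⁻¹ by group,
      hII.inverts T hTab ht htT hz hzT hv hzv, ← conj_inv, hII.inverts T hTab ht htT hy hyT hv hyv,
      inv_inv]
  exact (mul_inv_eq_iff_eq_mul.1 h).symm

omit hna hII in
theorem sq_one_mul {x y : G} (hx : x ∈ (T : Subgroup G)) (hy : y ∈ (T : Subgroup G)) (hx2 : x * x = 1)
    (hy2 : y * y = 1) : x * y * (x * y) = 1 := by
  rw [(hTab x hx y hy).symm.mul_mul_mul_comm, hx2, hy2, one_mul]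

/-- All involutions of `T` have the same centralizer. -/
theorem II.psl_of_same {t : G} (ht : orderOf t = 2) (htT : t ∈ (T : Subgroup G))
    (hsame : ∀ x ∈ (T : Subgroup G), orderOf x = 2 → ∀ n, Commute n x ↔ Commute n t) :
    IsPSLTwo G := by
  classical
  haveI : Fact (Nat.Prime 2) := ⟨Nat.prime_two⟩
  have hT := T.isPGroup'
  have hTt : ∀ x ∈ (T : Subgroup G), Commute x t := fun x hx => hTab x hx t htT
  set K := hII.oddCentr ht
  have hTK : ∀ g ∈ (T : Subgroup G), ∀ v ∈ K, Commute g v := by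
    intro g hg v hv
    rcases eq_or_ne g 1 with rfl | hg1
    · exact Commute.one_left v
    rcases eq_or_ne v 1 with rfl | hv1
    · exact Commute.one_right g
    refine hII.commute_oddCentr T hTab ht htT hg hg1 hv hv1 ?_ v hv
    exact (hsame _ (zpowers_le.2 hg (om_mem g)) (orderOf_om (even_of_mem hT hg hg1)) v).2 hv.2
  have hCcomm : ∀ x y : G, Commute x t → Commute y t → Commute x y := by
    intro x y hx hy
    obtain ⟨a, ha, v, hv, rfl⟩ := hII.cent_decomp ht T hTt hx
    obtain ⟨b, hb, w, hw, rfl⟩ := hII.cent_decomp ht T hTt hy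
    exact ((hTab a ha b hb).mul_right (hTK a ha w hw)).mul_left
      ((hTK b hb v hv).symm.mul_right (hII.oddCentr_comm ht hv hw))
  have hnm : ∀ x : G, Commute x t → x ≠ 1 → ∀ n, Nm x n ↔ Commute n t := by
    intro x hx hx1 n
    rcases Nat.even_or_odd (orderOf x) with he | ho
    · have ho2 := orderOf_om he
      have hxt : Commute (om x) t := hx.pow_left _
      have homT : om x ∈ (T : Subgroup G) := mem_of_central T ho2 fun y hy =>
        hCcomm y (om x) (hTt y hy) hxt
      rw [hII.nm_iff he ho2 (om_mem x) (mem_zpowers x) hx1, hsame _ homT ho2]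
    · exact hII.nm_odd ho hx1 ht hx n
  have hC : ∀ {x : G}, x ∈ centralizer ({t} : Set G) ↔ Commute x t := fun {x} =>
    mem_centralizer_singleton_iff
  let E : CentralizerTI.Setup G :=
    { simple := inferInstance
      z := t
      z_inv := ⟨Involution.ne_one ht, Involution.mul_self ht⟩
      A_ne_top := fun h => by
        have hc : t ∈ center G := mem_center_iff.2 fun g => (hC.1 (h ▸ mem_top g)).eq
        rw [SmallOrders.center_eq_bot hna] at hc
        exact Involution.ne_one ht hc
      cent_le := fun x hx hx1 g hgx => hC.2 ((hnm x (hC.1 hx) hx1 g).1 (nm_of_commute hgx))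
      ti_field := fun x hx hx1 g hgx => by
        rw [mem_normalizer_iff]
        intro n
        rw [hC, hC, ← hnm x (hC.1 hx) hx1 n,
          ← hnm _ (hC.1 hgx) (fun e => hx1 (conj_eq_one_iff.1 e)) (g * n * g⁻¹)]
        exact (nm_map (MulAut.conj g).toMonoidHom (MulAut.conj g).injective).symm
      hall_field := by
        refine Nat.coprime_of_dvd fun p hp hpC hpi => ?_
        haveI := Fact.mk hp
        obtain ⟨x, hx⟩ := exists_prime_orderOf_dvd_card' p hpC
        rw [← orderOf_coe] at hx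
        obtain ⟨Q, hQ⟩ := (IsPGroup.of_card (n := 1) (by rw [Nat.card_zpowers, hx, pow_one]) :
          IsPGroup p (zpowers (x : G))).exists_le_sylow
        have hxQ : (x : G) ∈ (Q : Subgroup G) := hQ (mem_zpowers _)
        have hx1 : (x : G) ≠ 1 := fun e => hp.one_lt.ne' (by rw [← hx, e, orderOf_one])
        haveI : Nontrivial (Q : Subgroup G) := ⟨⟨⟨x, hxQ⟩, 1, fun e => hx1 (congrArg Subtype.val e)⟩⟩
        haveI := Q.isPGroup'.center_nontrivial
        obtain ⟨z, hz1⟩ := exists_ne (1 : center (Q : Subgroup G))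
        have hz1' : ((z : (Q : Subgroup G)) : G) ≠ 1 := fun e => hz1 (Subtype.ext (Subtype.ext e))
        have hzQ : ∀ y ∈ (Q : Subgroup G), Commute y ((z : (Q : Subgroup G)) : G) := fun y hy =>
          congrArg Subtype.val (mem_center_iff.1 z.2 ⟨y, hy⟩)
        have hzC := (hnm _ (hC.1 x.2) hx1 _).1 (nm_of_commute (hzQ _ hxQ).symm)
        have hle : (Q : Subgroup G) ≤ centralizer ({t} : Set G) := fun y hy =>
          hC.2 ((hnm _ hzC hz1' y).1 (nm_of_commute (hzQ y hy)))
        exact Q.not_dvd_index (hpi.trans (index_dvd_of_le hle))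
      exists_outer := by
        by_contra hno
        push Not at hno
        refine fixed_contra hna T hTab ht htT fun n hn => ?_
        have hnt : n * t * n⁻¹ ∈ (T : Subgroup G) :=
          (Subgroup.mem_normalizer_iff.1 hn t).1 htT
        have hnC : Commute n t := hC.1 (hno n (by
          rw [mem_normalizer_iff]
          intro m
          rw [hC, hC, ← hsame _ hnt (by rw [Involution.orderOf_conj, ht]) (n * m * n⁻¹)]
          refine ⟨fun h => h.map (MulAut.conj n).toMonoidHom, fun h => ?_⟩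
          simpa [mul_assoc] using h.map (MulAut.conj n⁻¹).toMonoidHom))
        rw [hnC.eq, mul_inv_cancel_right] }
  obtain ⟨hsq, F, iF, iF', f, hf, hcard, he⟩ :=
    E.classify_of_comm (fun u hu v hv => (hCcomm u v (hC.1 hu) (hC.1 hv)).eq)
  by_cases h4 : Fintype.card F = 4
  swap
  · refine ⟨F, iF, iF', ?_, h4, he⟩
    have := Nat.pow_le_pow_right two_pos hf
    omega
  -- `PSL(2, 4)` is `PSL(2, 5)`
  obtain ⟨e⟩ := he
  have hG : Nat.card G = 2 ^ 2 * 15 := by
    have hc := PSL2.card_psl_mul (F := F)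
    rw [Nat.card_eq_fintype_card (α := F), h4] at hc
    simp only [show Nat.gcd 2 (4 - 1) = 1 from rfl] at hc
    rw [Nat.card_congr e.toEquiv]
    show Nat.card (PSL2.PSL2 F) = _
    omega
  have hT4 : Nat.card (T : Subgroup G) = 4 := SmallOrders.card_sylow_subgroup hG (by norm_num) T
  have hKbot : ∀ v ∈ K, v = 1 := fun v hv => by
    have h := hsq v (hC.2 hv.2)
    exact orderOf_eq_one_iff.1 (Nat.eq_one_of_dvd_coprimes hv.1.coprime_two_left
      (orderOf_dvd_of_pow_eq_one ((sq v).trans h)) dvd_rfl)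
  have hexp : ∀ x ∈ (T : Subgroup G), x * x = 1 := fun x hx => hsq x (hC.2 (hTt x hx))
  obtain ⟨s, hsT, hs1, hst⟩ : ∃ s ∈ (T : Subgroup G), s ≠ 1 ∧ s ≠ t := by
    by_contra h
    push Not at h
    have : (T : Subgroup G) ≤ zpowers t := fun x hx => by
      by_cases hx1 : x = 1
      · exact hx1 ▸ one_mem _
      · exact (h x hx hx1) ▸ mem_zpowers t
    have := Subgroup.card_le_of_le this
    rw [Nat.card_zpowers, ht, hT4] at this
    omega
  have hs2 : orderOf s = 2 := Involution.orderOf_of_sq (hexp s hsT) hs1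
  have hmem : ∀ x ∈ zpowers t, x = 1 ∨ x = t := fun x hx => by
    rcases eq_or_ne x 1 with h | h
    · exact Or.inl h
    · refine Or.inr ((eq_om hx (Involution.orderOf_of_sq ?_ h)).trans (eq_om (mem_zpowers t) ht).symm)
      exact hexp x (zpowers_le.2 htT hx)
  have hsnot : s ∉ zpowers t := fun h => (hmem s h).elim hs1 hst
  have htwo : ∀ x ∈ (T : Subgroup G), x ∈ zpowers t ∨ x * s ∈ zpowers t := by
    intro x hx
    have hi : ((zpowers t).subgroupOf (T : Subgroup G)).index = 2 := by
      have h := card_mul_index ((zpowers t).subgroupOf (T : Subgroup G))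
      rw [Nat.card_congr (subgroupOfEquivOfLe (zpowers_le.2 htT)).toEquiv, Nat.card_zpowers, ht, hT4] at h
      omega
    by_cases hxt : x ∈ zpowers t
    · exact Or.inl hxt
    · exact Or.inr (mem_subgroupOf.1 ((mul_mem_iff_of_index_two hi (a := ⟨x, hx⟩) (b := ⟨s, hsT⟩)).2
        (iff_of_false (fun h => hxt (mem_subgroupOf.1 h)) (fun h => hsnot (mem_subgroupOf.1 h)))))
  have hconj : ∀ x y : G, orderOf x = 2 → orderOf y = 2 → IsConj x y := by
    have hz : ∀ x : G, orderOf x = 2 → IsConj t x := fun x hx => by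
      obtain ⟨g, hg⟩ := E.exists_conj_z (t := x) ⟨Involution.ne_one hx, Involution.mul_self hx⟩
      exact isConj_iff.2 ⟨g, hg⟩
    exact fun x y hx hy => (hz x hx).symm.trans (hz y hy)
  have hst' : Commute s t := hTt s hsT
  have h : BSW.Hyp t s (zpowers t) :=
    { ht := ht
      hs := hs2
      comm := fun x hx y hy => hTab x (zpowers_le.2 htT hx) y (zpowers_le.2 htT hy)
      le_cent := fun x hx => BSW.mem_cent.2 (hTt x (zpowers_le.2 htT hx))
      t_mem := mem_zpowers t
      s_mem := BSW.mem_cent.2 hst'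
      s_not := hsnot
      cent_le := fun g hg => by
        obtain ⟨r, hr, v, hv, rfl⟩ := hII.cent_decomp ht T hTt (BSW.mem_cent.1 hg)
        rw [hKbot v hv, mul_one]
        rcases htwo r hr with h | h
        · exact le_sup_left (b := zpowers s) h
        · rw [show r = r * s * s⁻¹ by group]
          exact mul_mem (le_sup_left (b := zpowers s) h)
            (inv_mem (le_sup_right (a := zpowers t) (mem_zpowers s)))
      fix := fun x hx _ => hmem x hx
      inv := fun x hx => by
        have hxT : x ∈ (T : Subgroup G) := zpowers_le.2 htT hx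
        rw [(hTab s hsT x hxT).eq, mul_inv_cancel_right, inv_eq_of_mul_eq_one_right (hexp x hxT)]
      ti := fun g x hx hx1 hgx => by
        have hxt := (hmem x hx).resolve_left hx1
        subst hxt
        exact BSW.mem_cent.2 (mul_inv_eq_iff_eq_mul.1 ((hmem _ hgx).resolve_left fun e =>
          Involution.ne_one ht (conj_eq_one_iff.1 e)))
      all_conj := hconj }
  obtain ⟨F', iF2, iF2', hodd, he'⟩ := S0508.equiv_of_conclusion h.conclusion
  refine ⟨F', iF2, iF2', ?_, fun h4' => by rw [h4'] at hodd; exact absurd hodd (by decide), he'⟩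
  by_contra h3
  obtain ⟨e'⟩ := he'
  have hF : Fintype.card F' = 3 := by
    have := Fintype.one_lt_card (α := F')
    rcases hodd with ⟨k, hk⟩
    omega
  have hc := PSL2.card_psl_mul (F := F')
  rw [Nat.card_eq_fintype_card (α := F'), hF] at hc
  simp only [show Nat.gcd 2 (3 - 1) = 2 from rfl] at hc
  have h60 : Nat.card (PSL2.PSL2 F') = 2 ^ 2 * 15 := by rw [← hG]; exact (Nat.card_congr e'.toEquiv).symm
  omega

/-- An abelian Sylow `2`-subgroup. -/
theorem II.psl_of_abelian {t₀ : G} (ht₀ : orderOf t₀ = 2) (ht₀T : t₀ ∈ (T : Subgroup G)) :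
    IsPSLTwo G := by
  classical
  haveI : Fact (Nat.Prime 2) := ⟨Nat.prime_two⟩
  have hT := T.isPGroup'
  by_cases hall : ∀ x ∈ (T : Subgroup G), orderOf x = 2 → ∀ n, Commute n x ↔ Commute n t₀
  · exact hII.psl_of_same hna T hTab ht₀ ht₀T hall
  -- `v ∈ K_t` is inverted by some involution of `T`
  obtain ⟨t, ht, htT, v, hv, hv1⟩ : ∃ (t : G) (ht : orderOf t = 2),
      t ∈ (T : Subgroup G) ∧ ∃ v ∈ hII.oddCentr ht, v ≠ 1 := by
    by_contra h
    push Not at h
    apply hall
    intro x hxT hx n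
    have : ∀ (y z : G) (hy : orderOf y = 2), y ∈ (T : Subgroup G) → z ∈ (T : Subgroup G) →
        Commute n y → Commute n z := fun y z hy hyT hzT hn => by
      obtain ⟨r, hr, v, hv, rfl⟩ := hII.cent_decomp hy T (fun a ha => hTab a ha y hyT) hn
      rw [h y hy hyT v hv, mul_one]
      exact hTab r hr z hzT
    exact ⟨this x t₀ hx hxT ht₀T, this t₀ x ht₀ ht₀T hxT⟩
  obtain ⟨y, hy, hyT, hyv⟩ : ∃ y, orderOf y = 2 ∧ y ∈ (T : Subgroup G) ∧ ¬ Commute v y := by
    by_contra h
    push Not at h
    exact hall fun x hxT hx n => (hII.cent_eq hv.1 hv1 hx ht (h x hx hxT) hv.2 n).trans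
      (hII.cent_eq hv.1 hv1 ht₀ ht (h t₀ ht₀ ht₀T) hv.2 n).symm
  have hTt : ∀ x ∈ (T : Subgroup G), Commute x t := fun x hx => hTab x hx t htT
  have hyt : y ≠ t := fun e => hyv (e.symm ▸ hv.2)
  by_cases hr : ∃ t₂ ∈ (T : Subgroup G), orderOf t₂ = 2 ∧ t₂ ≠ t ∧ Commute v t₂
  · -- rank at least three: `N(T)` fixes an involution
    exfalso
    obtain ⟨t₂, ht₂T, ht₂, ht₂t, hvt₂⟩ := hr
    have hsame : ∀ p ∈ (T : Subgroup G), orderOf p = 2 → Commute v p → ∀ n, Commute n p ↔ Commute n t :=
      fun p _ hp hvp => hII.cent_eq hv.1 hv1 hp ht hvp hv.2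
    have hKy : ∀ (z : G), z ∈ (T : Subgroup G) → orderOf z = 2 → ¬ Commute v z →
        ∀ w : G, Odd (orderOf w) → Commute w z → w = 1 := by
      intro z hzT hz hzv w hw hwz
      by_contra hw1
      have hwmem : w ∈ hII.oddCentr hz := ⟨hw, hwz⟩
      obtain ⟨p, hpT, hp, hvp, hwp⟩ : ∃ p ∈ (T : Subgroup G), orderOf p = 2 ∧ Commute v p ∧ Commute w p := by
        by_cases h1 : Commute w t
        · exact ⟨t, htT, ht, hv.2, h1⟩
        by_cases h2 : Commute w t₂
        · exact ⟨t₂, ht₂T, ht₂, hvt₂, h2⟩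
        refine ⟨t * t₂, mul_mem htT ht₂T, ?_, hv.2.mul_right hvt₂,
          hII.commute_mul_of_inverts T hTab hz hzT ht htT ht₂ ht₂T hwmem h1 h2⟩
        refine Involution.orderOf_of_sq
          (sq_one_mul T hTab htT ht₂T (Involution.mul_self ht) (Involution.mul_self ht₂)) fun h => ht₂t ?_
        rw [mul_eq_one_iff_inv_eq, Involution.inv_eq ht] at h
        exact h.symm
      exact hzv ((hII.cent_eq hw hw1 hz ht hwz ((hsame p hpT hp hvp w).1 hwp) v).2 hv.2)
    -- the involutions inverting `v`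
    let P : G → Prop := fun x => x ∈ (T : Subgroup G) ∧ x * x = 1 ∧ ¬ Commute v x
    have hPinv : ∀ x, P x → orderOf x = 2 := fun x hx =>
      Involution.orderOf_of_sq hx.2.1 fun e => hx.2.2 (e ▸ Commute.one_right v)
    set N := normalizer ((T : Subgroup G) : Set G) with hN
    have hconjT : ∀ n ∈ N, ∀ x ∈ (T : Subgroup G), n * x * n⁻¹ ∈ (T : Subgroup G) := fun n hn x hx =>
      (Subgroup.mem_normalizer_iff.1 hn x).1 hx
    have hPN : ∀ n ∈ N, ∀ x, P x → P (n * x * n⁻¹) := by
      intro n hn x hx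
      refine ⟨hconjT n hn x hx.1,
        by rw [show n * x * n⁻¹ * (n * x * n⁻¹) = n * (x * x) * n⁻¹ by group, hx.2.1, mul_one,
          mul_inv_cancel], fun hc => ?_⟩
      have h := hKy x hx.1 (hPinv x hx) hx.2.2 (n⁻¹ * v * n⁻¹⁻¹)
        (by rw [Involution.orderOf_conj]; exact hv.1) (by
          simpa [mul_assoc] using hc.map (MulAut.conj n⁻¹).toMonoidHom)
      exact hv1 (conj_eq_one_iff.1 h)
    have hPy : P y := ⟨hyT, Involution.mul_self hy, hyv⟩
    letI : CommGroup (T : Subgroup G) :=
      { (inferInstance : Group (T : Subgroup G)) with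
        mul_comm := fun a b => Subtype.ext (hTab a a.2 b b.2).eq }
    let Q := ↥N ⧸ (T : Subgroup G).subgroupOf N
    haveI : Fintype Q := Fintype.ofFinite Q
    let f : Q → (T : Subgroup G) := Quotient.lift
      (fun n : N => (⟨n * y * (n : G)⁻¹, hconjT n n.2 y hyT⟩ : (T : Subgroup G))) (fun a b hab => by
        have hm : (a : G)⁻¹ * b ∈ (T : Subgroup G) := by
          simpa [mem_subgroupOf] using QuotientGroup.leftRel_apply.1 hab
        refine Subtype.ext ?_
        show (a : G) * y * (a : G)⁻¹ = (b : G) * y * (b : G)⁻¹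
        calc (a : G) * y * (a : G)⁻¹ = (a : G) * (((a : G)⁻¹ * b) * y * ((a : G)⁻¹ * b)⁻¹) * (a : G)⁻¹ := by
              rw [(hTab _ hm y hyT).eq, mul_inv_cancel_right]
          _ = (b : G) * y * (b : G)⁻¹ := by group)
    have hfmk : ∀ n : N, f (n : Q) = ⟨n * y * (n : G)⁻¹, hconjT n n.2 y hyT⟩ := fun n => rfl
    have hfP : ∀ q : Q, P (f q : G) := by
      intro q
      induction q using QuotientGroup.induction_on with
      | H n => exact hPN n n.2 y hPy
    have hprod : ∀ S : Finset Q, ((∏ q ∈ S, f q : (T : Subgroup G)) : G) * (∏ q ∈ S, f q : (T : Subgroup G)) = 1 ∧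
        (Odd S.card → ¬ Commute v ((∏ q ∈ S, f q : (T : Subgroup G)) : G)) ∧
        (Even S.card → Commute v ((∏ q ∈ S, f q : (T : Subgroup G)) : G)) := by
      intro S
      induction S using Finset.induction with
      | empty => simp
      | @insert q S hq ih =>
        rw [Finset.prod_insert hq, Finset.card_insert_of_notMem hq]
        obtain ⟨hi1, hi2, hi3⟩ := ih
        have hfq := hfP q
        refine ⟨?_, fun ho hc => ?_, fun he => ?_⟩
        · rw [Subgroup.coe_mul]
          exact sq_one_mul T hTab hfq.1 (SetLike.coe_mem _) hfq.2.1 hi1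
        · rw [Subgroup.coe_mul] at hc
          rw [Nat.odd_add_one, Nat.not_odd_iff_even] at ho
          exact hfq.2.2 (by simpa [mul_assoc] using hc.mul_right (hi3 ho).inv_right)
        · rw [Subgroup.coe_mul]
          rw [Nat.even_add_one, Nat.not_even_iff_odd] at he
          have hno := hi2 he
          exact hII.commute_mul_of_inverts T hTab ht htT (hPinv _ hfq) hfq.1
            (Involution.orderOf_of_sq hi1 fun e => hno (e ▸ Commute.one_right v)) (SetLike.coe_mem _)
            hv hfq.2.2 hno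
    have hodd : Odd (Finset.univ : Finset Q).card := by
      rw [Finset.card_univ, ← Nat.card_eq_fintype_card, ← index_eq_card, ← Nat.not_even_iff_odd,
        even_iff_two_dvd]
      exact fun h => T.not_dvd_index (h.trans (relIndex_dvd_index_of_le le_normalizer))
    set x : (T : Subgroup G) := ∏ q, f q with hx
    obtain ⟨hx1, hx2, -⟩ := hprod Finset.univ
    have hxv := hx2 hodd
    refine fixed_contra hna T hTab (x := (x : G))
      (Involution.orderOf_of_sq hx1 fun e => hxv (e ▸ Commute.one_right v)) x.2 fun n hn => ?_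
    let c : (T : Subgroup G) →* (T : Subgroup G) :=
      { toFun := fun a => ⟨n * a * n⁻¹, hconjT n hn a a.2⟩
        map_one' := Subtype.ext (by simp)
        map_mul' := fun a b => Subtype.ext (by
          show n * ((a : G) * b) * n⁻¹ = n * a * n⁻¹ * (n * b * n⁻¹)
          group) }
    have hcx : c x = x := by
      rw [hx, map_prod]
      refine Fintype.prod_equiv (MulAction.toPerm (⟨n, hn⟩ : N)) _ _ fun q => ?_
      induction q using QuotientGroup.induction_on with
      | H m =>
        refine Subtype.ext ?_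
        show n * ((m : G) * y * (m : G)⁻¹) * n⁻¹ = (n * m) * y * (n * m)⁻¹
        group
    exact congrArg Subtype.val hcx
  · -- rank two
    push Not at hr
    have hty2 : orderOf (t * y) = 2 := Involution.orderOf_of_sq
      (sq_one_mul T hTab htT hyT (Involution.mul_self ht) (Involution.mul_self hy)) fun h => hyt (by
        rw [mul_eq_one_iff_inv_eq, Involution.inv_eq ht] at h; exact h.symm)
    have htyT : t * y ∈ (T : Subgroup G) := mul_mem htT hyT
    have htyv : ¬ Commute v (t * y) := fun h => hyv (by simpa using hv.2.inv_right.mul_right h)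
    have hthree : ∀ x ∈ (T : Subgroup G), orderOf x = 2 → x = t ∨ x = y ∨ x = t * y := by
      intro x hxT hx
      by_cases hxv : Commute v x
      · by_contra h
        exact hr x hxT hx (fun e => h (Or.inl e)) hxv
      · rcases eq_or_ne x y with hxy | hxy
        · exact Or.inr (Or.inl hxy)
        · refine Or.inr (Or.inr ?_)
          have h1 : orderOf (x * y) = 2 := Involution.orderOf_of_sq
            (sq_one_mul T hTab hxT hyT (Involution.mul_self hx) (Involution.mul_self hy)) fun h => hxy (by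
              rw [mul_eq_one_iff_eq_inv, Involution.inv_eq hy] at h; exact h)
          have h2 : x * y = t := by
            by_contra h
            exact hr _ (mul_mem hxT hyT) h1 h (hII.commute_mul_of_inverts T hTab ht htT hx hxT hy hyT hv hxv hyv)
          rw [← h2, mul_assoc, Involution.mul_self hy, mul_one]
    set N := normalizer ((T : Subgroup G) : Set G)
    have hmove : ∀ a b c : G, orderOf a = 2 → a ∈ (T : Subgroup G) →
        (∀ x ∈ (T : Subgroup G), orderOf x = 2 → x = a ∨ x = b ∨ x = c) →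
        ∃ n ∈ N, n * a * n⁻¹ = b ∨ n * a * n⁻¹ = c := by
      intro a b c ha haT hcases
      by_contra h
      push Not at h
      refine fixed_contra hna T hTab ha haT fun n hn => ?_
      rcases hcases _ ((Subgroup.mem_normalizer_iff.1 hn a).1 haT) (by rw [Involution.orderOf_conj, ha])
        with h1 | h1 | h1
      · exact h1
      · exact absurd h1 (h n hn).1
      · exact absurd h1 (h n hn).2
    have hN : ∀ {a b : G}, (∃ n ∈ N, n * a * n⁻¹ = b) → ∃ n ∈ N, n * b * n⁻¹ = a := by
      rintro a b ⟨n, hn, rfl⟩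
      exact ⟨n⁻¹, inv_mem hn, by group⟩
    have hN' : ∀ {a b c : G}, (∃ n ∈ N, n * a * n⁻¹ = b) → (∃ n ∈ N, n * b * n⁻¹ = c) →
        ∃ n ∈ N, n * a * n⁻¹ = c := by
      rintro a b c ⟨n, hn, rfl⟩ ⟨m, hm, rfl⟩
      exact ⟨m * n, mul_mem hm hn, by group⟩
    obtain ⟨n₁, hn₁, h₁⟩ := hmove t y (t * y) ht htT hthree
    obtain ⟨n₂, hn₂, h₂⟩ := hmove (t * y) t y hty2 htyT fun x hx hx2 =>
      (hthree x hx hx2).elim (fun h => Or.inr (Or.inl h))
        fun h => h.elim (fun h => Or.inr (Or.inr h)) Or.inl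
    obtain ⟨n₃, hn₃, h₃⟩ := hmove y t (t * y) hy hyT fun x hx hx2 =>
      (hthree x hx hx2).elim (fun h => Or.inr (Or.inl h))
        fun h => h.elim Or.inl (fun h => Or.inr (Or.inr h))
    have hty : ∃ n ∈ N, n * t * n⁻¹ = y := by
      rcases h₁ with h | h
      · exact ⟨n₁, hn₁, h⟩
      rcases h₂ with h' | h'
      · rcases h₃ with h'' | h''
        · exact hN ⟨n₃, hn₃, h''⟩
        · exact hN' ⟨n₁, hn₁, h⟩ (hN ⟨n₃, hn₃, h''⟩)
      · exact hN' ⟨n₁, hn₁, h⟩ ⟨n₂, hn₂, h'⟩
    have htty : ∃ n ∈ N, n * t * n⁻¹ = t * y := by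
      rcases h₂ with h' | h'
      · exact hN ⟨n₂, hn₂, h'⟩
      · exact hN' hty (hN ⟨n₂, hn₂, h'⟩)
    -- `T` is elementary
    have hexp : ∀ g ∈ (T : Subgroup G), g * g = 1 := by
      intro g hg
      refine mem_sq_one hT hg fun hg4 => ?_
      obtain ⟨g₁, hg₁, hg₁4, hg₁o⟩ : ∃ g₁ ∈ (T : Subgroup G), 4 ≤ orderOf g₁ ∧ om g₁ = t := by
        have ho := orderOf_om (even_of_mem hT hg (by rintro rfl; simp at hg4))
        have : ∃ n ∈ N, n * t * n⁻¹ = om g := by
          rcases hthree _ (zpowers_le.2 hg (om_mem g)) ho with h | h | h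
          · exact ⟨1, one_mem _, by rw [h]; group⟩
          · exact h ▸ hty
          · exact h ▸ htty
        obtain ⟨n, hn, hnt⟩ := hN this
        exact ⟨n * g * n⁻¹, (Subgroup.mem_normalizer_iff.1 hn g).1 hg,
          by rwa [Involution.orderOf_conj], by rw [om_conj, hnt]⟩
      obtain ⟨n, hn, hnt⟩ := hty
      set g₂ := n * g₁ * n⁻¹
      have hg₂ : g₂ ∈ (T : Subgroup G) := (Subgroup.mem_normalizer_iff.1 hn g₁).1 hg₁
      have ho₂ : orderOf g₂ = orderOf g₁ := Involution.orderOf_conj n g₁
      have hom₂ : om g₂ = y := by rw [om_conj, hg₁o, hnt]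
      obtain ⟨hsq, homsq⟩ := om_pow_two (four_dvd hT hg₂ (ho₂ ▸ hg₁4))
      have hdvd : orderOf (g₂ ^ 2) ∣ orderOf g₁ / 2 := dvd_of_eq (by rw [hsq, ho₂])
      have h1 : (g₂ ^ 2) ^ (orderOf g₁ / 2) = 1 := orderOf_dvd_iff_pow_eq_one.1 hdvd
      obtain ⟨hco, hcom⟩ := om_mul (hTab g₁ hg₁ _ (pow_mem hg₂ 2))
        (hdvd.trans (Nat.div_dvd_of_dvd ((show 2 ∣ 4 by norm_num).trans (four_dvd hT hg₁ hg₁4))))
        (exists_two_pow hT hg₁) (by rw [h1, mul_one, hg₁o]; exact Involution.ne_one ht)
      rw [h1, mul_one, hg₁o] at hcom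
      have hc1 : g₁ * g₂ ^ 2 ≠ 1 := fun e => by rw [e, orderOf_one] at hco; omega
      have hcK := hII.commute_oddCentr T hTab ht htT (mul_mem hg₁ (pow_mem hg₂ 2)) hc1 hv hv1
        (hcom.symm ▸ hv.2) v hv
      have hg₁K := hII.commute_oddCentr T hTab ht htT hg₁ (by rintro rfl; simp at hg₁4) hv hv1
        (hg₁o.symm ▸ hv.2) v hv
      refine hyv ?_
      rw [← hom₂, ← homsq, om]
      exact (Commute.pow_right (by simpa using hg₁K.inv_left.mul_left hcK : Commute (g₂ ^ 2) v).symm _)
    have helts : ∀ x ∈ (T : Subgroup G), x = 1 ∨ x = t ∨ x = y ∨ x = t * y := fun x hx => by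
      rcases eq_or_ne x 1 with h | h
      · exact Or.inl h
      · exact Or.inr (hthree x hx (Involution.orderOf_of_sq (hexp x hx) h))
    have hmem : ∀ x ∈ zpowers t, x = 1 ∨ x = t := fun x hx => by
      rcases eq_or_ne x 1 with h | h
      · exact Or.inl h
      · exact Or.inr ((eq_om hx (Involution.orderOf_of_sq (hexp x (zpowers_le.2 htT hx)) h)).trans
          (eq_om (mem_zpowers t) ht).symm)
    have hnotmem : y ∉ zpowers t := fun h => (hmem y h).elim (Involution.ne_one hy) hyt
    refine hII.psl_of_dihedral hna T (zpowers t) (zpowers_le.2 htT)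
      (fun a ha b hb => hTab a (zpowers_le.2 htT ha) b (zpowers_le.2 htT hb)) ht (mem_zpowers t)
      (fun a ha ha2 => (hmem a ha).resolve_left (Involution.ne_one ha2)) hTt hy hyT hnotmem
      (fun a ha => by
        have haT : a ∈ (T : Subgroup G) := zpowers_le.2 htT ha
        rw [(hTab y hyT a haT).eq, mul_inv_cancel_right, inv_eq_of_mul_eq_one_right (hexp a haT)])
      (fun a ha => ?_) (fun a ha w hw => ?_) (fun w hw hc => ?_) ?_ ?_
    · rcases helts a ha with rfl | rfl | rfl | rfl
      · exact Or.inl (one_mem _)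
      · exact Or.inl (mem_zpowers _)
      · exact Or.inr (by rw [Involution.mul_self hy]; exact one_mem _)
      · exact Or.inr (by rw [mul_assoc, Involution.mul_self hy, mul_one]; exact mem_zpowers _)
    · rcases hmem a ha with rfl | rfl
      · exact Commute.one_left w
      · exact hw.2.symm
    · by_contra hw1
      exact hyv ((hII.cent_eq hw.1 hw1 hy ht hc.symm hw.2 v).2 hv.2)
    · have hz : ∀ x : G, orderOf x = 2 → IsConj x t := by
        intro x hx
        obtain ⟨g, hg⟩ := exists_conj_involution T hx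
        refine (isConj_iff.2 ⟨g, rfl⟩ : IsConj x (g * x * g⁻¹)).trans ?_
        rcases hthree _ hg (by rw [Involution.orderOf_conj, hx]) with h | h | h <;> rw [h]
        · obtain ⟨n, -, hn⟩ := hty
          exact (isConj_iff.2 ⟨n, hn⟩ : IsConj t y).symm
        · obtain ⟨n, -, hn⟩ := htty
          exact (isConj_iff.2 ⟨n, hn⟩ : IsConj t (t * y)).symm
      exact fun a b ha hb => (hz a ha).trans (hz b hb).symm
    · intro z hz hzT hsame
      rcases hthree z hzT hz with rfl | rfl | rfl
      · rfl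
      · exact absurd ((hsame v).2 hv.2) hyv
      · exact absurd ((hsame v).2 hv.2) htyv

end Cfsg.Agent.NormEven
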