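import Cfsg.Agent.Lib.NormEven.Basic
import Cfsg.Agent.Lib.AutPSL.Twisted

/-!
The almost simple groups over `PSL(2, q)` with uniform even normalizers contain no field automorphism.

* `range_le` : such a subgroup of `Aut PSL(2, q)` consists of inner-diagonal automorphisms
* `eq_inn_or_range`, `pglEquiv`
-/

set_option autoImplicit false
set_option linter.unusedSectionVars false
set_option linter.style.haveILetI false

open Matrix
open scoped MatrixGroups
open Cfsg.Agent.AutPSL
open Cfsg.Agent.FieldAut (galGL scal)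

namespace Cfsg.Agent.NormEven

variable {F : Type} [Field F] [Fintype F] [DecidableEq F]

local notation "PG" => ProjectiveSpecialLinearGroup (Fin (0 + 2)) F
local notation "G2" => GL (Fin (0 + 2)) F

/-- An invertible matrix from its entries. -/
noncomputable def mk2 (a b c d : F) (h : a * d - b * c ≠ 0) : G2 :=
  GeneralLinearGroup.mkOfDetNeZero (Matrix.of ![![a, b], ![c, d]]) (by
    rw [Matrix.det_fin_two]; simpa using h)

theorem mk2_val (a b c d : F) (h : a * d - b * c ≠ 0) :
    ((mk2 a b c d h : G2) : Matrix (Fin (0 + 2)) (Fin (0 + 2)) F) = Matrix.of ![![a, b], ![c, d]] := rfl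

theorem ext2 {g h : G2} (h00 : (g : Matrix (Fin (0+2)) (Fin (0+2)) F) 0 0 = (h : Matrix (Fin (0+2)) (Fin (0+2)) F) 0 0)
    (h01 : (g : Matrix (Fin (0+2)) (Fin (0+2)) F) 0 1 = (h : Matrix (Fin (0+2)) (Fin (0+2)) F) 0 1)
    (h10 : (g : Matrix (Fin (0+2)) (Fin (0+2)) F) 1 0 = (h : Matrix (Fin (0+2)) (Fin (0+2)) F) 1 0)
    (h11 : (g : Matrix (Fin (0+2)) (Fin (0+2)) F) 1 1 = (h : Matrix (Fin (0+2)) (Fin (0+2)) F) 1 1) :
    g = h := by
  refine Units.ext (Matrix.ext fun i j => ?_)
  fin_cases i <;> fin_cases j <;> assumption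

theorem scal_mul_apply (a : Fˣ) (g : G2) (i j : Fin (0 + 2)) :
    ((scal a * g : G2) : Matrix (Fin (0+2)) (Fin (0+2)) F) i j =
      (a : F) * (g : Matrix (Fin (0+2)) (Fin (0+2)) F) i j := by
  rw [Units.val_mul, FieldAut.scal_coe, Matrix.smul_mul, Matrix.one_mul, Matrix.smul_apply, smul_eq_mul]

theorem map_mk2 (σ : F ≃+* F) (a b c d : F) (h : a * d - b * c ≠ 0) :
    galGL σ (mk2 a b c d h : G2) = mk2 (σ a) (σ b) (σ c) (σ d) (by
      rw [← map_mul, ← map_mul, ← map_sub]; exact σ.map_ne_zero_iff.2 h) := by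
  rw [← galGL_eq_map]
  refine ext2 ?_ ?_ ?_ ?_ <;> rfl

theorem mk2_mul (a b c d a' b' c' d' : F) (h : a * d - b * c ≠ 0) (h' : a' * d' - b' * c' ≠ 0) :
    (mk2 a b c d h : G2) * mk2 a' b' c' d' h' =
      mk2 (a * a' + b * c') (a * b' + b * d') (c * a' + d * c') (c * b' + d * d') (by
        have := mul_ne_zero h h'
        intro e
        refine this ?_
        linear_combination e) := by
  refine ext2 ?_ ?_ ?_ ?_ <;>
    simp [Units.val_mul, mk2_val, Matrix.mul_apply, Fin.sum_univ_two]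

theorem mk2_eq {a b c d a' b' c' d' : F} {h : a * d - b * c ≠ 0} {h' : a' * d' - b' * c' ≠ 0}
    (ha : a = a') (hb : b = b') (hc : c = c') (hd : d = d') :
    (mk2 a b c d h : G2) = mk2 a' b' c' d' h' := by
  subst ha; subst hb; subst hc; subst hd; rfl

theorem one_eq_mk2 : (1 : G2) = mk2 1 0 0 1 (by simp) := by
  refine ext2 ?_ ?_ ?_ ?_ <;> simp [mk2_val]

theorem cj_mk2_iff {a b c d a' b' c' d' : F} {h : a * d - b * c ≠ 0} {h' : a' * d' - b' * c' ≠ 0} :
    cj (mk2 a b c d h : G2) = cj (mk2 a' b' c' d' h' : G2) ↔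
      ∃ k : F, k ≠ 0 ∧ a = k * a' ∧ b = k * b' ∧ c = k * c' ∧ d = k * d' := by
  rw [cj_eq_iff]
  constructor
  · rintro ⟨k, hk⟩
    have e : ∀ i j, ((mk2 a b c d h : G2) : Matrix (Fin (0+2)) (Fin (0+2)) F) i j =
        (k : F) * ((mk2 a' b' c' d' h' : G2) : Matrix (Fin (0+2)) (Fin (0+2)) F) i j := fun i j => by
      rw [hk, scal_mul_apply]
    exact ⟨k, k.ne_zero, e 0 0, e 0 1, e 1 0, e 1 1⟩
  · rintro ⟨k, hk, ha, hb, hc, hd⟩
    refine ⟨Units.mk0 k hk, ext2 ?_ ?_ ?_ ?_⟩ <;> rw [scal_mul_apply] <;> simpa [mk2_val]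

theorem cj_mk2_ne_one {a b c d : F} {h : a * d - b * c ≠ 0} (hne : ¬ (b = 0 ∧ c = 0 ∧ a = d)) :
    cj (mk2 a b c d h : G2) ≠ 1 := by
  rw [← map_one (cj : G2 →* MulAut PG), one_eq_mk2, Ne, cj_mk2_iff]
  rintro ⟨k, -, ha, hb, hc, hd⟩
  exact hne ⟨by simpa using hb, by simpa using hc, by rw [ha, hd]⟩

theorem cj_mem_inn {a b c d : F} (h : a * d - b * c = 1) :
    cj (mk2 a b c d (by rw [h]; exact one_ne_zero) : G2) ∈ Cfsg.Inn PG := by
  rw [← detMod_eq_one_iff]
  have : Matrix.GeneralLinearGroup.det (mk2 a b c d (by rw [h]; exact one_ne_zero) : G2) = 1 := by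
    refine Units.ext ?_
    rw [Matrix.GeneralLinearGroup.val_det_apply, mk2_val, Matrix.det_fin_two]
    simpa using h
  rw [detMod, MonoidHom.comp_apply, this, map_one]

/-- The classes of nonsquares coincide. -/
theorem detMod_eq_of_ne_one {g h : G2} (hg : detMod g ≠ 1) (hh : detMod h ≠ 1) : detMod g = detMod h := by
  obtain ⟨x, hx⟩ := QuotientGroup.mk_surjective (detMod g)
  obtain ⟨y, hy⟩ := QuotientGroup.mk_surjective (detMod h)
  rw [← hx] at hg ⊢
  rw [← hy] at hh ⊢
  rw [Ne, QuotientGroup.eq_one_iff] at hg hh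
  rw [QuotientGroup.eq]
  have hi : ((powMonoidHom (0 + 2) : Fˣ →* Fˣ).range).index = 2 := by
    have h1 := IsCyclic.index_powMonoidHom_range (G := Fˣ) (0 + 2)
    rcases (Nat.dvd_prime Nat.prime_two).1 (Nat.gcd_dvd_right (Nat.card Fˣ) (0 + 2)) with h2 | h2
    · exact absurd (Subgroup.index_eq_one.1 (h1.trans h2) ▸ Subgroup.mem_top x) hg
    · exact h1.trans h2
  rw [Subgroup.mul_mem_iff_of_index_two hi, inv_mem_iff]
  exact iff_of_false hg hh

theorem detMod_gal (σ : F ≃+* F) (g : G2) : detMod (galGL σ g) = detMod g := by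
  have key : ∀ (τ : F ≃+* F) (g : G2), detMod g = 1 → detMod (galGL τ g) = 1 := by
    intro τ g hg
    rw [detMod, MonoidHom.comp_apply] at hg ⊢
    obtain ⟨v, hv⟩ := (QuotientGroup.eq_one_iff _).1 hg
    refine (QuotientGroup.eq_one_iff _).2 ⟨Units.map τ.toRingHom.toMonoidHom v, ?_⟩
    rw [powMonoidHom_apply, ← map_pow, ← powMonoidHom_apply, hv]
    refine Units.ext ?_
    rw [← galGL_eq_map, Units.coe_map]
    exact RingHom.map_det τ.toRingHom _
  by_cases hg : detMod g = 1
  · rw [hg, key σ g hg]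
  · refine detMod_eq_of_ne_one (fun h => hg ?_) hg
    have := key σ.symm _ h
    rwa [show galGL σ.symm (galGL σ g) = g by
      rw [← galGL_eq_map, ← galGL_eq_map]
      refine Units.ext (Matrix.ext fun i j => ?_)
      exact σ.symm_apply_apply _] at this

theorem semi_eq_cj_mul (g : G2) (σ : F ≃+* F) : semi g σ = cj g * semi 1 σ := by
  rw [cj_apply, semi_mul]
  congr 1
  rw [map_one, mul_one]

/-- A power of a semilinear automorphism. -/
theorem exists_pow (g : G2) (σ : F ≃+* F) (i : ℕ) :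
    ∃ h : G2, (cj g * semi 1 σ) ^ i = cj h * semi 1 (σ ^ i) ∧ detMod h = detMod g ^ i := by
  induction i with
  | zero => exact ⟨1, by rw [pow_zero, pow_zero, map_one, one_mul]; exact semi_one.symm, by simp⟩
  | succ i ih =>
    obtain ⟨h, h1, h2⟩ := ih
    refine ⟨g * galGL σ h, ?_, by rw [map_mul, detMod_gal, h2, pow_succ']⟩
    rw [pow_succ', h1, map_mul, show cj g * semi 1 σ * (cj h * semi 1 (σ ^ i)) =
      cj g * (semi 1 σ * cj h) * semi 1 (σ ^ i) by group, field_comm, ← field_pow σ (i + 1),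
      ← field_pow σ i, pow_succ']
    group

theorem cj_mul_field_eq {g h : G2} {σ τ : F ≃+* F} (e : cj g * semi 1 σ = cj h * semi 1 τ) : σ = τ := by
  rw [← semi_eq_cj_mul, ← semi_eq_cj_mul, semi_eq_semi] at e
  exact e.1

/-- The units of a finite field of odd order: a generator is a nonsquare. -/
theorem exists_generator (hdet : ∃ g : G2, detMod g ≠ 1) :
    ∃ c : Fˣ, (∀ x : Fˣ, x ∈ Subgroup.zpowers c) ∧ ¬ ∃ v : Fˣ, v ^ 2 = c := by
  obtain ⟨g, hg⟩ := hdet
  obtain ⟨c, hc⟩ := IsCyclic.exists_generator (α := Fˣ)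
  refine ⟨c, hc, fun ⟨v, hv⟩ => hg ?_⟩
  obtain ⟨x, hx⟩ := QuotientGroup.mk_surjective (detMod g)
  rw [← hx, QuotientGroup.eq_one_iff]
  refine Subgroup.zpowers_le.2 (MonoidHom.mem_range.2 ⟨v, hv⟩) (hc x)

instance : Finite (MulAut PG) :=
  Finite.of_injective (fun α : MulAut PG => (α : PG → PG)) DFunLike.coe_injective

section

variable (H : Subgroup (MulAut (ProjectiveSpecialLinearGroup (Fin (0 + 2)) F)))
  (hInn : Cfsg.Inn (ProjectiveSpecialLinearGroup (Fin (0 + 2)) F) ≤ H) (hII : II H)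
include hII

theorem nm_odd_mem {v t n : MulAut PG} (hvH : v ∈ H) (htH : t ∈ H) (hnH : n ∈ H) (hv : Odd (orderOf v))
    (hv1 : v ≠ 1) (ht : orderOf t = 2) (hvt : Commute v t) : Nm v n ↔ Commute n t := by
  have h := hII.nm_odd (v := (⟨v, hvH⟩ : H)) (t := ⟨t, htH⟩) (by rwa [Subgroup.orderOf_mk])
    (fun e => hv1 (congrArg Subtype.val e)) (by rwa [Subgroup.orderOf_mk])
    (Subtype.ext hvt.eq) ⟨n, hnH⟩
  rw [← nm_map H.subtype H.subtype_injective] at h
  exact h.trans ⟨fun e => congrArg Subtype.val e, fun e => Subtype.ext e⟩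

theorem nm_pow_mem {g n : MulAut PG} (hgH : g ∈ H) (hnH : n ∈ H) (hg : Even (orderOf g))
    (h2 : g ^ 2 ≠ 1) : Nm g n ↔ Nm (g ^ 2) n := by
  have h := hII (⟨g, hgH⟩ : H) (⟨g, hgH⟩ ^ 2) (by rwa [Subgroup.orderOf_mk])
    (Subgroup.pow_mem _ (Subgroup.mem_zpowers _) 2) (fun e => h2 (congrArg Subtype.val e)) ⟨n, hnH⟩
  rw [← nm_map H.subtype H.subtype_injective, ← nm_map H.subtype H.subtype_injective] at h
  exact h

include hInn

/-- A field automorphism of prime order is impossible. -/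
theorem field_false {σ : F ≃+* F} {k : ℕ} (hk : k.Prime) (hσ : orderOf σ = k)
    (hφ : semi (1 : G2) σ ∈ H) (h3 : 3 < Fintype.card F) (h4 : Fintype.card F ≠ 4) : False := by
  classical
  haveI := Fact.mk hk
  set φ : MulAut PG := semi 1 σ with hφdef
  have hσ1 : σ ≠ 1 := fun e => hk.one_lt.ne' (by rw [← hσ, e, orderOf_one])
  have hφ1 : φ ≠ 1 := fun e => hσ1 ((semi_eq_one_iff.1 e).1)
  have hφo : orderOf φ = k := by
    refine orderOf_eq_prime ?_ hφ1
    rw [hφdef, field_pow, ← hσ, pow_orderOf_eq_one]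
    exact semi_one
  have hfix : ∀ (a b c d : F) (h : a * d - b * c ≠ 0), σ a = a → σ b = b → σ c = c → σ d = d →
      Commute (cj (mk2 a b c d h : G2)) φ := by
    intro a b c d h ha hb hc hd
    show cj (mk2 a b c d h : G2) * φ = φ * cj (mk2 a b c d h : G2)
    rw [hφdef, field_comm, map_mk2, mk2_eq ha hb hc hd]
  have hσn : σ (-1) = -1 := by rw [map_neg, map_one]
  -- the standard elements
  have hu : (1 : F) * 1 - 1 * 0 = 1 := by ring
  have hw : (0 : F) * 0 - 1 * (-1) = 1 := by ring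
  set U : MulAut PG := cj (mk2 1 1 0 1 (by rw [hu]; exact one_ne_zero) : G2) with hU
  set W : MulAut PG := cj (mk2 0 1 (-1) 0 (by rw [hw]; exact one_ne_zero) : G2) with hW
  have hUH : U ∈ H := hInn (cj_mem_inn hu)
  have hWH : W ∈ H := hInn (cj_mem_inn hw)
  have hW2 : orderOf W = 2 := by
    refine orderOf_eq_prime ?_ (cj_mk2_ne_one fun h => one_ne_zero h.1)
    rw [sq, hW, ← map_mul, mk2_mul, ← map_one (cj : G2 →* MulAut PG), one_eq_mk2, cj_mk2_iff]
    exact ⟨-1, neg_ne_zero.2 one_ne_zero, by ring, by ring, by ring, by ring⟩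
  have hUφ : Commute U φ := hfix _ _ _ _ _ (map_one σ) (map_one σ) (map_zero σ) (map_one σ)
  have hWφ : Commute W φ := hfix _ _ _ _ _ (map_zero σ) (map_one σ) hσn (map_zero σ)
  rcases hk.eq_two_or_odd' with rfl | hkodd
  swap
  · -- odd order
    have h := (nm_odd_mem H hII hφ hWH hUH (hφo ▸ hkodd) hφ1 hW2 hWφ.symm).1 (nm_of_commute hUφ)
    have h' := h.eq
    rw [hU, hW, ← map_mul, ← map_mul, mk2_mul, mk2_mul, cj_mk2_iff] at h'
    obtain ⟨l, -, e, -, -, -⟩ := h'
    simp at e
  by_cases h2 : (2 : F) = 0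
  · -- characteristic two: a fixed element other than `0, 1`
    obtain ⟨a, ha0, ha1, ha⟩ : ∃ a : F, a ≠ 0 ∧ a ≠ 1 ∧ σ a = a := by
      by_contra h
      push Not at h
      have hfix' : ∀ a : F, σ a = a → a = 0 ∨ a = 1 := fun a ha => by
        by_contra h'
        push Not at h'
        exact h a h'.1 h'.2 ha
      have hσσ : ∀ x, σ (σ x) = x := fun x => by
        have := DFunLike.congr_fun (show σ ^ 2 = 1 by rw [← hσ, pow_orderOf_eq_one]) x
        rw [sq] at this
        exact this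
      have hsmall : ∀ x : F, x = 0 ∨ x = 1 ∨ x * x + x + 1 = 0 := by
        intro x
        by_cases hx : x = 0
        · exact Or.inl hx
        refine Or.inr ?_
        rcases hfix' (x * σ x) (by rw [map_mul, hσσ, mul_comm]) with h' | h'
        · exact absurd h' (mul_ne_zero hx (σ.map_ne_zero_iff.2 hx))
        rcases hfix' (x + σ x) (by rw [map_add, hσσ, add_comm]) with h'' | h''
        · refine Or.inl ?_
          have hxx : (x - 1) * (x - 1) = 0 := by
            linear_combination x * h'' - h' - x * h2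
          exact sub_eq_zero.1 (mul_self_eq_zero.1 hxx)
        · exact Or.inr (by linear_combination x * h'' - h' + x * h2 * 0 + (1 : F) * h2 * 0 + x * (h2) * 0 + h2 * 0 + (h2) * x)
      have hle : Fintype.card F ≤ 4 := by
        by_cases hr : ∃ r : F, r * r + r + 1 = 0
        · obtain ⟨r, hr⟩ := hr
          have : (Finset.univ : Finset F) ⊆ {0, 1, r, -1 - r} := fun x _ => by
            simp only [Finset.mem_insert, Finset.mem_singleton]
            rcases hsmall x with h' | h' | h'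
            · exact Or.inl h'
            · exact Or.inr (Or.inl h')
            · have : (x - r) * (x - (-1 - r)) = 0 := by linear_combination h' - hr
              rcases mul_eq_zero.1 this with h'' | h''
              · exact Or.inr (Or.inr (Or.inl (sub_eq_zero.1 h'')))
              · exact Or.inr (Or.inr (Or.inr (sub_eq_zero.1 h'')))
          exact (Finset.card_le_card this).trans Finset.card_le_four
        · push Not at hr
          have : (Finset.univ : Finset F) ⊆ {0, 1} := fun x _ => by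
            simp only [Finset.mem_insert, Finset.mem_singleton]
            rcases hsmall x with h' | h' | h'
            · exact Or.inl h'
            · exact Or.inr h'
            · exact absurd h' (hr x)
          exact ((Finset.card_le_card this).trans Finset.card_le_two).trans (by norm_num)
      omega
    have hd : a * a⁻¹ - 0 * 0 = 1 := by rw [mul_inv_cancel₀ ha0]; ring
    set D : MulAut PG := cj (mk2 a 0 0 a⁻¹ (by rw [hd]; exact one_ne_zero) : G2) with hD
    have hDpow : ∀ i : ℕ, D ^ i = cj (mk2 (a ^ i) 0 0 (a⁻¹ ^ i) (by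
        rw [zero_mul, sub_zero]; exact mul_ne_zero (pow_ne_zero i ha0) (pow_ne_zero i (inv_ne_zero ha0))) : G2) := by
      intro i
      induction i with
      | zero =>
        rw [pow_zero, ← map_one (cj : G2 →* MulAut PG), one_eq_mk2]
        exact congrArg _ (mk2_eq (by simp) rfl rfl (by simp))
      | succ i ih =>
        rw [pow_succ, ih, hD, ← map_mul, mk2_mul]
        exact congrArg _ (mk2_eq (by ring) (by ring) (by ring) (by ring))
    have hDodd : Odd (orderOf D) := by
      have hq : Odd (Fintype.card F - 1) := by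
        have hchar : ringChar F = 2 := by
          have hd2 : ringChar F ∣ 2 := ringChar.dvd (by exact_mod_cast h2)
          rcases (Nat.dvd_prime Nat.prime_two).1 hd2 with e | e
          · exact absurd e (CharP.ringChar_ne_one)
          · exact e
        obtain ⟨n, hn⟩ := Nat.even_iff.2 (FiniteField.even_card_of_char_two hchar)
        exact ⟨n - 1, by omega⟩
      refine hq.of_dvd_nat (orderOf_dvd_of_pow_eq_one ?_)
      rw [hDpow, ← map_one (cj : G2 →* MulAut PG), one_eq_mk2]
      exact congrArg _ (mk2_eq (FiniteField.pow_card_sub_one_eq_one a ha0) rfl rfl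
        (FiniteField.pow_card_sub_one_eq_one _ (inv_ne_zero ha0)))
    have hD1 : D ≠ 1 := cj_mk2_ne_one fun h => ha1 (by
      have haa : a * a = 1 := by nth_rewrite 2 [h.2.2]; exact mul_inv_cancel₀ ha0
      have : (a - 1) * (a - 1) = 0 := by linear_combination haa + (1 - a) * h2
      exact sub_eq_zero.1 (mul_self_eq_zero.1 this))
    have hDφ : Commute D φ := hfix _ _ _ _ _ ha (map_zero σ) (map_zero σ) (by rw [map_inv₀, ha])
    obtain ⟨j, hj⟩ := (mem_powers_iff_mem_zpowers (x := D)).2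
      ((nm_odd_mem H hII (hInn (cj_mem_inn hd)) hφ hUH hDodd hD1 hφo hDφ).2 hUφ)
    have h' : D ^ j * U = U * D := by
      rw [show D ^ j = U * D * U⁻¹ from hj]; group
    rw [hDpow, hU, hD, ← map_mul, ← map_mul, mk2_mul, mk2_mul, cj_mk2_iff] at h'
    obtain ⟨l, hl, e00, e01, -, e11⟩ := h'
    simp at e00 e01 e11
    -- `a^j = l a` and `a^j = l a⁻¹`
    have hla : l * a = l * a⁻¹ := e00.symm.trans e01
    have haa : a * a = 1 := by
      have := mul_left_cancel₀ hl hla
      nth_rewrite 2 [this]; exact mul_inv_cancel₀ ha0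
    have : (a - 1) * (a - 1) = 0 := by linear_combination haa + (1 - a) * h2
    exact ha1 (sub_eq_zero.1 (mul_self_eq_zero.1 this))
  · -- odd characteristic
    have hUpow : ∀ i : ℕ, U ^ i = cj (mk2 1 (i : F) 0 1 (by simp) : G2) := by
      intro i
      induction i with
      | zero =>
        rw [pow_zero, ← map_one (cj : G2 →* MulAut PG), one_eq_mk2]
        exact congrArg _ (mk2_eq rfl (by simp) rfl rfl)
      | succ i ih =>
        rw [pow_succ, ih, hU, ← map_mul, mk2_mul]
        exact congrArg _ (mk2_eq (by simp) (by push_cast; ring) (by simp) (by simp))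
    have hUodd : Odd (orderOf U) := by
      refine (show Odd (Fintype.card F) from Nat.not_even_iff_odd.1 fun he => h2 ?_).of_dvd_nat
        (orderOf_dvd_of_pow_eq_one ?_)
      · have hchar := FiniteField.even_card_iff_char_two.2 (Nat.even_iff.1 he)
        have := ringChar.Nat.cast_ringChar (R := F)
        rw [hchar] at this
        exact_mod_cast this
      · rw [hUpow, ← map_one (cj : G2 →* MulAut PG), one_eq_mk2]
        exact congrArg _ (mk2_eq rfl (FiniteField.cast_card_eq_zero F) rfl rfl)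
    obtain ⟨j, hj⟩ := (mem_powers_iff_mem_zpowers (x := U)).2
      ((nm_odd_mem H hII hUH hφ hWH hUodd (cj_mk2_ne_one fun h => one_ne_zero h.1) hφo hUφ).2 hWφ)
    have h' : U ^ j * W = W * U := by
      rw [show U ^ j = W * U * W⁻¹ from hj]; group
    rw [hUpow, hU, hW, ← map_mul, ← map_mul, mk2_mul, mk2_mul, cj_mk2_iff] at h'
    obtain ⟨l, hl, -, -, -, e⟩ := h'
    simp [eq_comm] at e
    exact hl e

/-- A twisted field automorphism of order two is impossible. -/
theorem twisted_false {σ : F ≃+* F} (hσ : orderOf σ = 2) {c : Fˣ}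
    (hc : ∀ x : Fˣ, x ∈ Subgroup.zpowers c) (hcns : ¬ ∃ v : Fˣ, v ^ 2 = c)
    (hβ : cj (mk2 (c : F) 0 0 1 (by simp) : G2) * semi 1 σ ∈ H) : False := by
  have hc0 : (c : F) ≠ 0 := c.ne_zero
  set β : MulAut PG := cj (mk2 (c : F) 0 0 1 (by simp) : G2) * semi 1 σ with hβdef
  set n : F := (c : F) * σ c with hn
  have hn0 : n ≠ 0 := mul_ne_zero hc0 (σ.map_ne_zero_iff.2 hc0)
  have hσσ : σ * σ = 1 := by rw [← sq, ← hσ, pow_orderOf_eq_one]
  have hσσ' : ∀ x, σ (σ x) = x := fun x => by have := DFunLike.congr_fun hσσ x; exact this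
  have hσ1 : σ ≠ 1 := fun e => by rw [e, orderOf_one] at hσ; omega
  -- `c` is not fixed up to a square
  have hn1 : n ≠ 1 := by
    intro e
    -- then `σ x = x⁻¹` for all `x ≠ 0`
    have hσc : σ (c : F) = (c : F)⁻¹ := eq_inv_of_mul_eq_one_right e
    have hinv : ∀ x : F, x ≠ 0 → σ x = x⁻¹ := by
      intro x hx
      obtain ⟨i, hi⟩ := hc (Units.mk0 x hx)
      have hx' : x = (c : F) ^ i := by
        rw [← Units.val_zpow_eq_zpow_val, show c ^ i = Units.mk0 x hx from hi]; rfl
      rw [hx', map_zpow₀, hσc, _root_.inv_zpow]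
    by_cases h1 : (c : F) + 1 = 0
    · refine hσ1 (RingEquiv.ext fun x => ?_)
      rcases eq_or_ne x 0 with rfl | hx
      · rw [map_zero, map_zero]
      obtain ⟨i, hi⟩ := hc (Units.mk0 x hx)
      have hx' : x = (c : F) ^ i := by
        rw [← Units.val_zpow_eq_zpow_val, show c ^ i = Units.mk0 x hx from hi]; rfl
      show σ x = x
      rw [hx', map_zpow₀, eq_neg_of_add_eq_zero_left h1, map_neg, map_one]
    · have h2 := hinv _ h1
      rw [map_add, map_one, hσc] at h2
      refine hcns ⟨Units.mk0 _ h1, Units.ext ?_⟩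
      rw [Units.val_pow_eq_pow_val, Units.val_mk0, sq]
      field_simp at h2
      linear_combination h2
  have hsq : β ^ 2 = cj (mk2 n 0 0 1 (by simpa using hn0) : G2) := by
    rw [sq, hβdef, show ∀ A B : MulAut PG, A * B * (A * B) = A * (B * A) * B from fun A B => by group,
      field_comm, map_mk2, ← mul_assoc, ← map_mul, mul_assoc, mk2_mul,
      show semi (1 : G2) σ * semi 1 σ = 1 by rw [← sq, field_pow, sq, hσσ]; exact semi_one, mul_one]
    exact congrArg _ (mk2_eq (by rw [map_zero, mul_zero, add_zero]) (by simp) (by simp) (by simp))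
  have hpow : ∀ i : ℕ, (β ^ 2) ^ i = cj (mk2 (n ^ i) 0 0 1 (by simpa using pow_ne_zero i hn0) : G2) := by
    intro i
    induction i with
    | zero =>
      rw [pow_zero, ← map_one (cj : G2 →* MulAut PG), one_eq_mk2]
      exact congrArg _ (mk2_eq (by simp) rfl rfl rfl)
    | succ i ih =>
      rw [pow_succ, ih, hsq, ← map_mul, mk2_mul]
      exact congrArg _ (mk2_eq (by ring) (by ring) (by ring) (by ring))
  have heven : Even (orderOf β) := by
    by_contra ho
    obtain ⟨i, hi⟩ := Nat.not_even_iff_odd.1 ho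
    have h1 : β ^ (2 * i + 1) = 1 := by rw [← hi, pow_orderOf_eq_one]
    rw [pow_succ, pow_mul, hpow, hβdef, ← mul_assoc, ← map_mul, ← semi_eq_cj_mul] at h1
    exact hσ1 (semi_eq_one_iff.1 h1).1
  have hne : β ^ 2 ≠ 1 := hsq ▸ cj_mk2_ne_one fun h => hn1 h.2.2
  have hw : (0 : F) * 0 - 1 * (-1) = 1 := by ring
  set W : MulAut PG := cj (mk2 0 1 (-1) 0 (by rw [hw]; exact one_ne_zero) : G2) with hW
  have hnm : Nm (β ^ 2) W := by
    have h1 : W * β ^ 2 * W⁻¹ = (β ^ 2)⁻¹ := by
      rw [eq_inv_iff_mul_eq_one, hsq, hW, ← map_inv, ← map_mul, ← map_mul, ← map_mul, cj_eq_one_iff]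
      refine ⟨Units.mk0 n hn0, Units.ext ?_⟩
      have hwi : ((mk2 0 1 (-1) 0 (by rw [hw]; exact one_ne_zero) : G2))⁻¹ =
          mk2 0 (-1) 1 0 (by simp) := by
        refine inv_eq_of_mul_eq_one_right ?_
        rw [mk2_mul, one_eq_mk2]
        exact mk2_eq (by ring) (by ring) (by ring) (by ring)
      rw [hwi, mk2_mul, mk2_mul, mk2_mul, FieldAut.scal_coe, mk2_val]
      ext i j
      fin_cases i <;> fin_cases j <;> simp [Matrix.smul_apply]
    show W * β ^ 2 * W⁻¹ ∈ Subgroup.zpowers (β ^ 2)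
    rw [h1]; exact inv_mem (Subgroup.mem_zpowers _)
  obtain ⟨j, hj⟩ := (mem_powers_iff_mem_zpowers (x := β)).2
    ((nm_pow_mem H hII hβ (hInn (cj_mem_inn hw)) heven hne).2 hnm)
  have hWσ : semi (1 : G2) σ * W = W * semi 1 σ := by
    rw [hW, field_comm, map_mk2]
    exact congrArg (· * semi (1 : G2) σ) (congrArg _ (mk2_eq (map_zero σ) (map_one σ)
      (by rw [map_neg, map_one]) (map_zero σ)))
  have hj' : β ^ j * W = W * β := by
    rw [show β ^ j = W * β * W⁻¹ from hj]; group
  rcases Nat.even_or_odd j with ⟨i, rfl⟩ | ⟨i, rfl⟩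
  · rw [← two_mul, pow_mul, hpow, hβdef, hW, ← map_mul, ← mul_assoc, ← map_mul,
      ← mul_one (cj (_ * _)), ← semi_one] at hj'
    exact hσ1 (cj_mul_field_eq hj').symm
  · rw [pow_succ, pow_mul, hpow, hβdef, ← mul_assoc, ← map_mul, mul_assoc, hWσ, ← mul_assoc,
      ← mul_assoc, mul_left_inj, hW, ← map_mul, ← map_mul, mk2_mul, mk2_mul, mk2_mul, cj_mk2_iff] at hj'
    obtain ⟨l, hl, -, e01, e10, -⟩ := hj'
    simp at e01 e10
    -- `n^i c = l` and `1 = l c`
    have hcn : n ^ i * ((c : F) * c) = 1 := by linear_combination (c : F) * e01 - e10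
    have hσn : σ n = n := by rw [hn, map_mul, hσσ', mul_comm]
    have hfixc : σ ((c : F) * c) = (c : F) * c := by
      have h := congrArg σ hcn
      rw [map_mul, map_pow, hσn, map_one, ← hcn] at h
      exact mul_left_cancel₀ (pow_ne_zero i hn0) h
    have hsquares : ∀ x : F, σ (x * x) = x * x := by
      intro x
      rcases eq_or_ne x 0 with rfl | hx
      · simp
      obtain ⟨m, hm⟩ := hc (Units.mk0 x hx)
      have hx' : x = (c : F) ^ m := by
        rw [← Units.val_zpow_eq_zpow_val, show c ^ m = Units.mk0 x hx from hm]; rfl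
      rw [hx', ← mul_zpow, map_zpow₀, hfixc]
    refine hσ1 (RingEquiv.ext fun x => ?_)
    show σ x = x
    have h2 : (2 : F) ≠ 0 := fun h2 => by
      obtain ⟨v, hv⟩ : IsSquare (c : F) := FiniteField.isSquare_of_char_two (by
        rcases (Nat.dvd_prime Nat.prime_two).1 (ringChar.dvd (by exact_mod_cast h2 : ((2 : ℕ) : F) = 0)) with e | e
        · exact absurd e CharP.ringChar_ne_one
        · exact e) _
      exact hcns ⟨Units.mk0 v (by rintro rfl; exact hc0 (by simpa using hv)), Units.ext (by simp [hv, sq])⟩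
    have h := hsquares (x + 1)
    rw [map_mul, map_add, map_one] at h
    have h' := hsquares x
    rw [map_mul] at h'
    exact mul_left_cancel₀ h2 (by linear_combination h - h')

theorem range_le (h3 : 3 < Fintype.card F) (h4 : Fintype.card F ≠ 4) :
    H ≤ (cj : G2 →* MulAut PG).range := by
  classical
  intro α hα
  obtain ⟨g, σ, rfl⟩ := exists_semi_of_two α
  by_cases hσ : σ = 1
  · exact ⟨g, by subst hσ; rfl⟩
  exfalso
  -- reduce to prime order
  haveI : Finite (F ≃+* F) := Finite.of_injective (fun e : F ≃+* F => (e : F → F)) DFunLike.coe_injective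
  obtain ⟨k, hk, hdvd⟩ := Nat.exists_prime_and_dvd (n := orderOf σ)
    (fun h => hσ (orderOf_eq_one_iff.1 h))
  obtain ⟨d, hd⟩ := hdvd
  obtain ⟨g', hg', -⟩ := exists_pow g σ d
  have hτ : orderOf (σ ^ d) = k := by
    have hpos := orderOf_pos σ
    rw [orderOf_pow' σ (by rintro rfl; omega), hd, Nat.gcd_eq_right (dvd_mul_left d k),
      Nat.mul_div_cancel _ (Nat.pos_of_ne_zero (by rintro rfl; omega))]
  set τ := σ ^ d
  have hα' : cj g' * semi 1 τ ∈ H := by
    rw [← hg']; exact H.pow_mem (semi_eq_cj_mul g σ ▸ hα) d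
  -- the diagonal part
  by_cases hdiag : cj g' ∈ H
  · exact field_false H hInn hII hk hτ ((H.mul_mem_cancel_left hdiag).1 hα') h3 h4
  have hdet : detMod g' ≠ 1 := fun h => hdiag (hInn ((detMod_eq_one_iff g').1 h))
  rcases hk.eq_two_or_odd' with rfl | hodd
  · obtain ⟨c, hc, hcns⟩ := exists_generator ⟨g', hdet⟩
    refine twisted_false H hInn hII hτ hc hcns ?_
    have hdc : detMod (mk2 (c : F) 0 0 1 (by simp) : G2) ≠ 1 := by
      rw [Ne, detMod, MonoidHom.comp_apply, QuotientGroup.mk'_apply, QuotientGroup.eq_one_iff]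
      rintro ⟨v, hv⟩
      refine hcns ⟨v, (Units.ext ?_)⟩
      rw [powMonoidHom_apply] at hv
      have hv' : (v : F) ^ 2 = ((Matrix.GeneralLinearGroup.det (mk2 (c : F) 0 0 1 (by simp) : G2) : Fˣ) : F) := by
        rw [← hv, Units.val_pow_eq_pow_val]
      rw [Units.val_pow_eq_pow_val, hv', Matrix.GeneralLinearGroup.val_det_apply, mk2_val, Matrix.det_fin_two]
      simp
    have hin : cj ((mk2 (c : F) 0 0 1 (by simp) : G2) * g'⁻¹) ∈ H := hInn ((detMod_eq_one_iff _).1 (by
      rw [map_mul, map_inv, detMod_eq_of_ne_one hdc hdet, mul_inv_cancel]))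
    have := H.mul_mem hin hα'
    rwa [map_mul, map_inv, ← mul_assoc, inv_mul_cancel_right] at this
  · obtain ⟨h, hh, hhdet⟩ := exists_pow g' τ k
    rw [show τ ^ k = 1 by rw [← hτ, pow_orderOf_eq_one]] at hh
    have hh' : cj h ∈ H := by
      have := H.pow_mem hα' k
      rwa [hh, show semi (1 : G2) (1 : F ≃+* F) = 1 from semi_one, mul_one] at this
    refine hdiag ?_
    have hsq : detMod g' * detMod g' = 1 := by
      obtain ⟨x, hx⟩ := QuotientGroup.mk_surjective (detMod g')
      rw [← hx, ← QuotientGroup.mk_mul, QuotientGroup.eq_one_iff]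
      exact ⟨x, by rw [powMonoidHom_apply]; exact sq x⟩
    have hdeq : detMod h = detMod g' := by
      obtain ⟨i, rfl⟩ := hodd
      rw [hhdet, pow_succ, pow_mul, sq, hsq, one_pow, one_mul]
    have := H.mul_mem (hInn ((detMod_eq_one_iff (g' * h⁻¹)).1 (by
      rw [map_mul, map_inv, hdeq, mul_inv_cancel]))) hh'
    rwa [← map_mul, inv_mul_cancel_right] at this

/-- Either `H` is inner or it is the whole group of inner-diagonal automorphisms. -/
theorem eq_inn_or_range (h3 : 3 < Fintype.card F) (h4 : Fintype.card F ≠ 4) :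
    H ≤ Cfsg.Inn PG ∨ H = (cj : G2 →* MulAut PG).range := by
  by_cases hall : H ≤ Cfsg.Inn PG
  · exact Or.inl hall
  refine Or.inr (le_antisymm (range_le H hInn hII h3 h4) ?_)
  obtain ⟨α, hα, hαn⟩ := SetLike.not_le_iff_exists.1 hall
  obtain ⟨g, rfl⟩ := range_le H hInn hII h3 h4 hα
  have hg : detMod g ≠ 1 := fun h => hαn ((detMod_eq_one_iff g).1 h)
  rintro _ ⟨h, rfl⟩
  by_cases hh : detMod h = 1
  · exact hInn ((detMod_eq_one_iff h).1 hh)
  · have := H.mul_mem (hInn ((detMod_eq_one_iff (h * g⁻¹)).1 (by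
      rw [map_mul, map_inv, detMod_eq_of_ne_one hh hg, mul_inv_cancel]))) hα
    rwa [← map_mul, inv_mul_cancel_right] at this

end

/-- The inner-diagonal automorphisms form `PGL`. -/
theorem pglEquiv : Nonempty (↥(cj : G2 →* MulAut PG).range ≃* ProjGenLinGroup (Fin (0 + 2)) F) := by
  refine ⟨(QuotientGroup.quotientKerEquivRange cj).symm.trans (QuotientGroup.quotientMulEquivOfEq ?_)⟩
  ext g
  rw [MonoidHom.mem_ker, cj_apply, semi_eq_one_iff, and_iff_right rfl]

end Cfsg.Agent.NormEven
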