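import Cfsg.Agent.Lib.NormEven.SylowTwo

/-!
Simple groups with uniform even normalizers and generalized dihedral Sylow `2`-subgroups.

* `Shape.psl` : such a group is `PSL(2, q)`; the rank of the abelian half is `1`
-/

set_option autoImplicit false
set_option linter.unusedSectionVars false
set_option linter.style.haveILetI false

open Subgroup

namespace Cfsg.Agent.NormEven

universe u

variable {G : Type u} [Group G] [Finite G] [IsSimpleGroup G]

/-- `T` is the abelian group `A` of exponent at least `4` extended by inverting involutions. -/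
structure Shape (T : Sylow 2 G) (A : Subgroup G) (s : G) : Prop where
  le : A ≤ T
  comm : ∀ x ∈ A, ∀ y ∈ A, Commute x y
  four : ∃ a ∈ A, 4 ≤ orderOf a
  sT : s ∈ (T : Subgroup G)
  s2 : orderOf s = 2
  sA : s ∉ A
  two : ∀ x ∈ (T : Subgroup G), x ∈ A ∨ x * s ∈ A
  out : ∀ x ∈ (T : Subgroup G), x ∉ A → x * x = 1 ∧ ∀ a ∈ A, x * a * x⁻¹ = a⁻¹

namespace Shape

variable {T : Sylow 2 G} {A : Subgroup G} {s : G} (H : Shape T A s)
include H

/-- The elements of `T` commuting with `x`. -/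
theorem not_commute {x a : G} (hx : x ∈ (T : Subgroup G)) (hxA : x ∉ A) (ha : a ∈ A)
    (ha4 : 4 ≤ orderOf a) : ¬ Commute x a := fun h => by
  have h1 := (H.out x hx hxA).2 a ha
  rw [h.eq, mul_inv_cancel_right] at h1
  have := Nat.le_of_dvd two_pos (orderOf_dvd_of_pow_eq_one
    (show a ^ 2 = 1 by rw [sq]; exact mul_eq_one_iff_eq_inv.2 h1))
  omega

theorem prod_mem {x y : G} (hx : x ∈ (T : Subgroup G)) (hy : y ∈ (T : Subgroup G)) (hxA : x ∉ A)
    (hyA : y ∉ A) : x * y ∈ A := by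
  have h1 := (H.two x hx).resolve_left hxA
  have h2 := (H.two y hy).resolve_left hyA
  have ha := (H.out _ H.sT H.sA).2 _ h2
  rw [show x * y = x * s * (s * (y * s) * s⁻¹) by
    rw [show x * s * (s * (y * s) * s⁻¹) = x * (s * s) * y * (s * s⁻¹) by group,
      Involution.mul_self H.s2, mul_inv_cancel, mul_one, mul_one], ha]
  exact mul_mem h1 (inv_mem h2)

/-- Elements of order two of `A` are central in `T`. -/
theorem central {e : G} (he : e ∈ A) (he2 : e * e = 1) {x : G} (hx : x ∈ (T : Subgroup G)) :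
    Commute x e := by
  by_cases hxA : x ∈ A
  · exact H.comm x hxA e he
  · have h := (H.out x hx hxA).2 e he
    rw [inv_eq_of_mul_eq_one_right he2] at h
    exact mul_inv_eq_iff_eq_mul.1 h

/-- The elementary abelian group `C_T(x)` of an outer element `x`. -/
theorem mem_cent_out {x y : G} (hx : x ∈ (T : Subgroup G)) (hxA : x ∉ A) (hy : y ∈ (T : Subgroup G))
    (hxy : Commute y x) : y * y = 1 := by
  by_cases hyA : y ∈ A
  · have h := (H.out x hx hxA).2 y hyA
    rw [hxy.eq.symm, mul_inv_cancel_right] at h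
    exact mul_eq_one_iff_eq_inv.2 h
  · exact (H.out y hy hyA).1

theorem not_fixed {x a : G} (hx : x ∈ (T : Subgroup G)) (ha : a ∈ A) (ha4 : 4 ≤ orderOf a)
    (hfix : a * x * a⁻¹ = x) : x ∈ A := by
  by_contra hxA
  exact H.not_commute hx hxA ha ha4 (mul_inv_eq_iff_eq_mul.1 hfix).symm

variable (hII : II G) (hna : ¬ IsMulCommutative G)
include hII hna

theorem exists_conj_into : ∃ g : G, g * s * g⁻¹ ∈ A :=
  exists_index_two_contra hna T A H.le H.s2 H.sT H.sA H.two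

omit hna in
/-- Two distinct involutions in `A` are impossible. -/
theorem false_of_two {e₁ e₂ : G} (h₁ : e₁ ∈ A) (h₁2 : orderOf e₁ = 2) (h₂ : e₂ ∈ A)
    (h₂2 : orderOf e₂ = 2) (hne : e₁ ≠ e₂) (hconj : ∃ g : G, g * s * g⁻¹ ∈ A) : False := by
  classical
  haveI : Fact (Nat.Prime 2) := ⟨Nat.prime_two⟩
  have hT := T.isPGroup'
  obtain ⟨g, hgA⟩ := hconj
  set e := g * s * g⁻¹ with he
  have he2 : orderOf e = 2 := by rw [he, Involution.orderOf_conj, H.s2]
  have hTe : ∀ x ∈ (T : Subgroup G), Commute x e := fun x hx =>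
    H.central hgA (Involution.mul_self he2) hx
  -- the groups `C_T(x)`
  let E : Subgroup G := (T : Subgroup G) ⊓ centralizer ({s} : Set G) ⊓ A
  have hmemE : ∀ {x : G}, x ∈ E ↔ x ∈ A ∧ x * x = 1 := fun {x} => by
    refine ⟨fun h => ⟨h.2, H.mem_cent_out H.sT H.sA h.1.1 (mem_centralizer_singleton_iff.1 h.1.2)⟩,
      fun h => ⟨⟨H.le h.1, mem_centralizer_singleton_iff.2 (H.central h.1 h.2 H.sT).symm⟩, h.1⟩⟩
  let V : G → Subgroup G := fun x => (T : Subgroup G) ⊓ centralizer ({x} : Set G)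
  have hmemV : ∀ {x y : G}, y ∈ V x ↔ y ∈ (T : Subgroup G) ∧ Commute y x := fun {x y} => by
    rw [show (y ∈ V x ↔ _) = (y ∈ (T : Subgroup G) ⊓ centralizer ({x} : Set G) ↔ _) from rfl, mem_inf,
      mem_centralizer_singleton_iff]
    rfl
  have hVexp : ∀ {x : G}, x ∈ (T : Subgroup G) → x ∉ A → ∀ y ∈ V x, y * y = 1 := fun hx hxA y hy =>
    H.mem_cent_out hx hxA (hmemV.1 hy).1 (hmemV.1 hy).2
  have hexpcomm : ∀ {W : Subgroup G}, (∀ y ∈ W, y * y = 1) → ∀ y ∈ W, ∀ z ∈ W, Commute y z :=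
    fun {W} hW y hy z hz => by
      show y * z = z * y
      rw [← inv_eq_of_mul_eq_one_right (hW _ (mul_mem hy hz)), mul_inv_rev,
        inv_eq_of_mul_eq_one_right (hW y hy), inv_eq_of_mul_eq_one_right (hW z hz)]
  have hEV : ∀ {x : G}, x ∈ (T : Subgroup G) → E ≤ V x := fun hx y hy =>
    hmemV.2 ⟨H.le (hmemE.1 hy).1, (H.central (hmemE.1 hy).1 (hmemE.1 hy).2 hx).symm⟩
  have hcardV : ∀ {x : G}, x ∈ (T : Subgroup G) → x ∉ A → Nat.card (V x) = 2 * Nat.card E := by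
    intro x hx hxA
    have hi : E.relIndex (V x) = 2 := by
      rw [relIndex, index_eq_two_iff]
      refine ⟨⟨x, hmemV.2 ⟨hx, Commute.refl x⟩⟩, fun b => ?_⟩
      have hbT := (hmemV.1 b.2).1
      have hb2 := hVexp hx hxA b b.2
      have hbx2 := hVexp hx hxA _ (mul_mem b.2 (hmemV.2 ⟨hx, Commute.refl x⟩))
      simp only [mem_subgroupOf, Subgroup.coe_mul, hmemE]
      by_cases hbA : (b : G) ∈ A
      · exact Or.inr ⟨⟨hbA, hb2⟩, fun h => hxA (by simpa using mul_mem (inv_mem hbA) h.1)⟩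
      · exact Or.inl ⟨⟨H.prod_mem hbT hx hbA hxA, hbx2⟩, fun h => hbA h.1⟩
    have h := card_mul_index (E.subgroupOf (V x))
    rw [Nat.card_congr (subgroupOfEquivOfLe (hEV hx)).toEquiv, ← relIndex, hi] at h
    rw [← h, mul_comm]
  have hWeq : ∀ W : Subgroup G, W ≤ T → (∀ y ∈ W, y * y = 1) → Nat.card W = 2 * Nat.card E →
      ∃ x ∈ (T : Subgroup G), x ∉ A ∧ W = V x := by
    intro W hWT hW hcard
    obtain ⟨x, hxW, hxA⟩ : ∃ x ∈ W, x ∉ A := by
      by_contra h
      push Not at h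
      have h1 := Subgroup.card_le_of_le (show W ≤ E from fun y hy => hmemE.2 ⟨h y hy, hW y hy⟩)
      have h2 : 0 < Nat.card E := Nat.card_pos
      omega
    refine ⟨x, hWT hxW, hxA, Subgroup.eq_of_le_of_card_ge
      (fun y hy => hmemV.2 ⟨hWT hy, hexpcomm hW y hy x hxW⟩) ?_⟩
    rw [hcardV (hWT hxW) hxA, hcard]
  -- an element of order `4` of `A`
  obtain ⟨a, haA, ha4⟩ : ∃ a ∈ A, orderOf a = 4 := by
    obtain ⟨a₀, ha₀, ha₀4⟩ := H.four
    refine ⟨a₀ ^ (orderOf a₀ / 4), pow_mem ha₀ _, ?_⟩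
    obtain ⟨m, hm⟩ := four_dvd hT (H.le ha₀) ha₀4
    rw [hm, Nat.mul_div_cancel_left _ (by norm_num : 0 < 4),
      orderOf_pow' a₀ (by rintro rfl; omega), hm, Nat.gcd_eq_right (dvd_mul_left m 4),
      Nat.mul_div_cancel _ (by omega)]
  have ha2 : a * a ∈ E := hmemE.2 ⟨mul_mem haA haA, by
    rw [← sq, ← sq, ← pow_mul, show 2 * 2 = orderOf a by rw [ha4], pow_orderOf_eq_one]⟩
  have hnorm : ∀ {x : G}, x ∈ (T : Subgroup G) → x ∉ A → ∀ y ∈ V x, a * y * a⁻¹ ∈ V x := by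
    intro x hx hxA y hy
    by_cases hyA : y ∈ A
    · rwa [(H.comm a haA y hyA).eq, mul_inv_cancel_right]
    · have h := (H.out y (hmemV.1 hy).1 hyA).2 a⁻¹ (inv_mem haA)
      rw [inv_inv, mul_inv_eq_iff_eq_mul] at h
      rw [mul_assoc, h, ← mul_assoc]
      exact mul_mem (hEV hx ha2) hy
  -- the second transvection
  have hsV : s ∈ V s := hmemV.2 ⟨H.sT, Commute.refl s⟩
  obtain ⟨c, hc, hcT⟩ := exists_conj_cent T hTe
    (S := (V s).map (MulAut.conj g).toMonoidHom) ((hT.to_le inf_le_left).map _) (by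
      rintro _ ⟨y, hy, rfl⟩
      exact (hmemV.1 hy).2.map (MulAut.conj g).toMonoidHom)
  set h := c * g with hh
  have hhs : h * s * h⁻¹ = e := by
    rw [hh, show c * g * s * (c * g)⁻¹ = c * e * c⁻¹ by rw [he]; group, hc.eq, mul_inv_cancel_right]
  have hhT : ∀ y ∈ V s, h * y * h⁻¹ ∈ (T : Subgroup G) := fun y hy => by
    have := hcT _ ⟨y, hy, rfl⟩
    simpa [hh, mul_assoc] using this
  obtain ⟨x'', hx'', hx''A, hW⟩ := hWeq ((V s).map (MulAut.conj h).toMonoidHom)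
    (by rintro _ ⟨y, hy, rfl⟩; exact hhT y hy)
    (by rintro _ ⟨y, hy, rfl⟩; rw [← map_mul, hVexp H.sT H.sA y hy, map_one])
    (by rw [card_map_of_injective (MulAut.conj h).injective, hcardV H.sT H.sA])
  set b := h⁻¹ * a * h with hb
  have hmemh : ∀ {y : G}, h * y * h⁻¹ ∈ V x'' → y ∈ V s := fun {y} hy => by
    rw [← hW] at hy
    obtain ⟨z, hz, hze⟩ := hy
    rwa [← (MulAut.conj h).injective (hze : (MulAut.conj h) z = (MulAut.conj h) y)]
  have hbnorm : ∀ y ∈ V s, b * y * b⁻¹ ∈ V s := fun y hy => hmemh (by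
    rw [show h * (b * y * b⁻¹) * h⁻¹ = a * (h * y * h⁻¹) * a⁻¹ by rw [hb]; group]
    exact hnorm hx'' hx''A _ (hW ▸ ⟨y, hy, rfl⟩))
  have hfixa : ∀ y ∈ V s, a * y * a⁻¹ = y → y ∈ E := fun y hy hfix =>
    hmemE.2 ⟨H.not_fixed (hmemV.1 hy).1 haA ha4.ge hfix, hVexp H.sT H.sA y hy⟩
  have hfixb : ∀ y ∈ V s, b * y * b⁻¹ = y → h * y * h⁻¹ ∈ A := fun y hy hfix =>
    H.not_fixed (hhT y hy) haA ha4.ge (by
      conv_rhs => rw [← hfix]
      rw [hb]; group)
  -- a common fixed involution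
  obtain ⟨w, hwE, hw1, hwb⟩ : ∃ w ∈ E, w ≠ 1 ∧ h * w * h⁻¹ ∈ A := by
    have hin : ∀ z ∈ E, h * z * h⁻¹ ∈ (T : Subgroup G) := fun z hz => hhT z (hEV H.sT hz)
    have hz1 : e₁ ∈ E := hmemE.2 ⟨h₁, Involution.mul_self h₁2⟩
    have hz2 : e₂ ∈ E := hmemE.2 ⟨h₂, Involution.mul_self h₂2⟩
    by_cases hA1 : h * e₁ * h⁻¹ ∈ A
    · exact ⟨e₁, hz1, Involution.ne_one h₁2, hA1⟩
    by_cases hA2 : h * e₂ * h⁻¹ ∈ A
    · exact ⟨e₂, hz2, Involution.ne_one h₂2, hA2⟩
    refine ⟨e₁ * e₂, mul_mem hz1 hz2, fun hp => hne ?_, ?_⟩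
    · rw [mul_eq_one_iff_eq_inv, Involution.inv_eq h₂2] at hp; exact hp
    · rw [show h * (e₁ * e₂) * h⁻¹ = (h * e₁ * h⁻¹) * (h * e₂ * h⁻¹) by group]
      exact H.prod_mem (hin _ hz1) (hin _ hz2) hA1 hA2
  have hw2 : orderOf w = 2 := Involution.orderOf_of_sq (hmemE.1 hwE).2 hw1
  have hwV : w ∈ V s := hEV H.sT hwE
  -- a `2`-group inducing both transvections on `V`
  set M := normalizer (V s : Set G) ⊓ centralizer ({w} : Set G) with hM
  have hmemN : ∀ m : G, (∀ y ∈ V s, m * y * m⁻¹ ∈ V s) → m ∈ normalizer (V s : Set G) := by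
    intro m hm
    rw [Subgroup.mem_normalizer_iff_map_conj_eq]
    refine Subgroup.eq_of_le_of_card_ge ?_
      (le_of_eq (card_map_of_injective (MulAut.conj m).injective).symm)
    rintro _ ⟨y, hy, rfl⟩
    exact hm y hy
  have haM : a ∈ M := mem_inf.2 ⟨hmemN a (hnorm H.sT H.sA),
    mem_centralizer_singleton_iff.2 (H.comm a haA w (hmemE.1 hwE).1).eq⟩
  have hbM : b ∈ M := mem_inf.2 ⟨hmemN b hbnorm, mem_centralizer_singleton_iff.2 (by
    have h1 := (H.comm a haA _ hwb).map (MulAut.conj h⁻¹).toMonoidHom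
    simpa [hb, mul_assoc] using h1.eq)⟩
  have hcomm : ∀ y ∈ V s, ∀ z ∈ V s, Commute y z := hexpcomm (hVexp H.sT H.sA)
  have hVM : V s ≤ M := fun y hy => mem_inf.2 ⟨le_normalizer hy,
    mem_centralizer_singleton_iff.2 (hcomm y hy w hwV).eq⟩
  obtain ⟨R⟩ : Nonempty (Sylow 2 M) := inferInstance
  have hVn : ((V s).subgroupOf M).Normal := ⟨fun y hy m => by
    rw [mem_subgroupOf] at hy ⊢
    exact (Subgroup.mem_normalizer_iff.1 m.2.1 y).1 hy⟩
  have hVR : (V s).subgroupOf M ≤ R := by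
    have hp : IsPGroup 2 ((V s).subgroupOf M) :=
      (hT.to_le inf_le_left).of_equiv (subgroupOfEquivOfLe hVM).symm
    exact le_sup_left.trans_eq (R.is_maximal' (hp.to_sup_of_normal_left R.isPGroup') le_sup_right)
  -- every element of `M` induces on `V` what an element of `R` induces
  let N₀ : Subgroup M := (centralizer (V s : Set G)).subgroupOf M
  haveI hN₀n : N₀.Normal := by
    refine ⟨fun x hx m => ?_⟩
    rw [mem_subgroupOf, mem_centralizer_iff] at hx ⊢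
    intro y hy
    have hy' : (m : G)⁻¹ * y * m ∈ V s := by
      simpa using (Subgroup.mem_normalizer_iff.1 (inv_mem m.2.1) y).1 hy
    have h1 := hx _ hy'
    calc y * ((m : G) * x * (m : G)⁻¹) = (m : G) * ((m : G)⁻¹ * y * m * x) * (m : G)⁻¹ := by group
      _ = (m : G) * (x * ((m : G)⁻¹ * y * m)) * (m : G)⁻¹ := by rw [h1]
      _ = (m : G) * x * (m : G)⁻¹ * y := by group
  have hq : IsPGroup 2 (↥M ⧸ N₀) := by
    intro q
    obtain ⟨m, rfl⟩ := QuotientGroup.mk_surjective q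
    obtain ⟨r, v, ⟨k, hr⟩, hv, hm, -, -⟩ := two_odd_parts m
    refine ⟨k, ?_⟩
    have hvN : v ∈ N₀ := mem_subgroupOf.2 (mem_centralizer_iff.2 fun y hy =>
      ((hII.centralizes_of_odd hcomm (hT.to_le inf_le_left) (by rwa [orderOf_coe]) hw2 hwV
        (mem_centralizer_singleton_iff.1 v.2.2)
        (fun z hz => (Subgroup.mem_normalizer_iff.1 v.2.1 z).1 hz) hy).eq).symm)
    rw [hm, QuotientGroup.mk_mul, (QuotientGroup.eq_one_iff v).2 hvN, mul_one, ← QuotientGroup.mk_pow,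
      ← hr, pow_orderOf_eq_one, QuotientGroup.mk_one]
  have htop : (R : Subgroup M) ⊔ N₀ = ⊤ := by
    rw [← index_eq_one]
    obtain ⟨i, hi⟩ := IsPGroup.iff_card.1 hq
    rw [← index_eq_card] at hi
    exact Nat.eq_one_of_dvd_coprimes ((Nat.prime_two.coprime_iff_not_dvd.2 R.not_dvd_index).pow_left i)
      (hi ▸ index_dvd_of_le le_sup_right) (index_dvd_of_le le_sup_left)
  have hrep : ∀ m ∈ M, ∃ r : M, r ∈ (R : Subgroup M) ∧ ∀ y ∈ V s, m * y * m⁻¹ = r * y * (r : G)⁻¹ := by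
    intro m hm
    obtain ⟨r, hr, n, hn, e'⟩ :=
      (mem_sup_of_normal_right (s := (R : Subgroup M)) (t := N₀)).1 (htop ▸ mem_top (⟨m, hm⟩ : M))
    refine ⟨r, hr, fun y hy => ?_⟩
    have e'' : m = r * n := (congrArg Subtype.val e').symm
    have h1 := mem_centralizer_iff.1 (mem_subgroupOf.1 hn) y hy
    calc m * y * m⁻¹ = r * ((n : G) * y) * (n : G)⁻¹ * (r : G)⁻¹ := by rw [e'']; group
      _ = r * y * (r : G)⁻¹ := by rw [← h1]; group
  obtain ⟨ra, hra, hra'⟩ := hrep a haM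
  obtain ⟨rb, hrb, hrb'⟩ := hrep b hbM
  -- `R` lies in a Sylow subgroup, whose axis is fixed by both
  obtain ⟨d, hd⟩ := exists_conj_mem T (R.isPGroup'.map M.subtype)
  have hdV : ∀ y ∈ V s, d * y * d⁻¹ ∈ (T : Subgroup G) := fun y hy =>
    hd y ⟨⟨y, hVM hy⟩, hVR (mem_subgroupOf.2 hy), rfl⟩
  obtain ⟨x, hx, hxA, hU⟩ := hWeq ((V s).map (MulAut.conj d).toMonoidHom)
    (by rintro _ ⟨y, hy, rfl⟩; exact hdV y hy)
    (by rintro _ ⟨y, hy, rfl⟩; rw [← map_mul, hVexp H.sT H.sA y hy, map_one])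
    (by rw [card_map_of_injective (MulAut.conj d).injective, hcardV H.sT H.sA])
  have hback : ∀ z ∈ E, d⁻¹ * z * d ∈ E ∧ h * (d⁻¹ * z * d) * h⁻¹ ∈ A := by
    intro z hz
    have hzV : d⁻¹ * z * d ∈ V s := by
      have := hEV hx hz
      rw [← hU] at this
      obtain ⟨y, hy, hye⟩ := this
      rw [← hye]
      simpa [mul_assoc] using hy
    have hfix : ∀ r : M, r ∈ (R : Subgroup M) →
        (r : G) * (d⁻¹ * z * d) * (r : G)⁻¹ = d⁻¹ * z * d := by
      intro r hr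
      have h1 : Commute (d * r * d⁻¹) z :=
        H.central (hmemE.1 hz).1 (hmemE.1 hz).2 (hd r ⟨r, hr, rfl⟩)
      calc (r : G) * (d⁻¹ * z * d) * (r : G)⁻¹ = d⁻¹ * ((d * r * d⁻¹) * z * (d * r * d⁻¹)⁻¹) * d := by
            group
        _ = d⁻¹ * z * d := by rw [h1.eq, mul_inv_cancel_right]
    exact ⟨hfixa _ hzV ((hra' _ hzV).trans (hfix ra hra)),
      hfixb _ hzV ((hrb' _ hzV).trans (hfix rb hrb))⟩
  -- so the map `z ↦ d⁻¹ z d` of `E` misses the elements with `h z h⁻¹ ∉ A`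
  have hsurj : Function.Surjective fun z : E => (⟨d⁻¹ * z * d, (hback z z.2).1⟩ : E) :=
    Finite.surjective_of_injective fun z z' hzz => by
      have := congrArg Subtype.val hzz
      exact Subtype.ext (by simpa using this)
  have hall : ∀ z ∈ E, h * z * h⁻¹ ∈ A := fun z hz => by
    obtain ⟨z', hz'⟩ := hsurj ⟨z, hz⟩
    rw [← show d⁻¹ * (z' : G) * d = z from congrArg Subtype.val hz']
    exact (hback z' z'.2).2
  -- but then `h` maps `E` onto itself, and `s` into it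
  have hsurj2 : Function.Surjective fun z : E => (⟨h * z * h⁻¹, hmemE.2 ⟨hall z z.2, by
      rw [show h * z * h⁻¹ * (h * z * h⁻¹) = h * (z * z) * h⁻¹ by group, (hmemE.1 z.2).2, mul_one,
        mul_inv_cancel]⟩⟩ : E) :=
    Finite.surjective_of_injective fun z z' hzz => by
      have := congrArg Subtype.val hzz
      exact Subtype.ext (by simpa using this)
  obtain ⟨z, hz⟩ := hsurj2 ⟨e, hmemE.2 ⟨hgA, Involution.mul_self he2⟩⟩
  have hze : h * (z : G) * h⁻¹ = h * s * h⁻¹ := (congrArg Subtype.val hz).trans hhs.symm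
  rw [mul_left_inj, mul_right_inj] at hze
  exact H.sA (hze ▸ (hmemE.1 z.2).1)

/-- The group is `PSL(2, q)`. -/
theorem psl : IsPSLTwo G := by
  haveI : Fact (Nat.Prime 2) := ⟨Nat.prime_two⟩
  have hT := T.isPGroup'
  obtain ⟨a, ha, ha4⟩ := H.four
  have hev : Even (orderOf a) :=
    even_iff_two_dvd.2 ((show 2 ∣ 4 by norm_num).trans (four_dvd hT (H.le ha) ha4))
  set ω := om a with hωdef
  have hω : orderOf ω = 2 := orderOf_om hev
  have hωA : ω ∈ A := zpowers_le.2 ha (om_mem a)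
  have huniq : ∀ x ∈ A, orderOf x = 2 → x = ω := fun x hx hx2 => by
    by_contra hne
    exact H.false_of_two hII hx hx2 hωA hω hne (H.exists_conj_into hII hna)
  have hTω : ∀ x ∈ (T : Subgroup G), Commute x ω := fun x hx => hII.commute_om hT (H.le ha) ha4 hx
  have hinvol : ∀ x : G, orderOf x = 2 → IsConj x ω := by
    intro x hx
    obtain ⟨g, hg⟩ := exists_conj_involution T hx
    have hgx : orderOf (g * x * g⁻¹) = 2 := by rw [Involution.orderOf_conj, hx]
    by_cases hA : g * x * g⁻¹ ∈ A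
    · exact isConj_iff.2 ⟨g, huniq _ hA hgx⟩
    · have h1 : ∀ y ∈ (T : Subgroup G), y ∈ A ∨ y * (g * x * g⁻¹) ∈ A := fun y hy =>
        (em (y ∈ A)).imp_right fun hyA => H.prod_mem hy hg hyA hA
      obtain ⟨g', hg'⟩ := exists_index_two_contra hna T A H.le hgx hg hA h1
      exact isConj_iff.2 ⟨g' * g, by
        rw [← huniq _ hg' (by rw [Involution.orderOf_conj, hgx])]; group⟩
  refine hII.psl_of_dihedral hna T A H.le H.comm hω hωA huniq hTω H.s2 H.sT H.sA
    (fun x hx => (H.out s H.sT H.sA).2 x hx) H.two ?_ ?_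
    (fun x y hx hy => (hinvol x hx).trans (hinvol y hy).symm) ?_
  · intro x hx v hv
    by_cases hx4 : 4 ≤ orderOf x
    · have hxe : Even (orderOf x) :=
        even_iff_two_dvd.2 ((show 2 ∣ 4 by norm_num).trans (four_dvd hT (H.le hx) hx4))
      refine commute_of_nm ?_ (hII.nm_oddCentr hω hv (H.comm x hx ω hωA)) fun z hzx hzv => ?_
      · exact (hII.nm_iff hxe (orderOf_om hxe) (om_mem x) (mem_zpowers x)
          (by rintro rfl; simp at hx4) v).2
            ((huniq _ (zpowers_le.2 hx (om_mem x)) (orderOf_om hxe)).symm ▸ hv.2)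
      · obtain ⟨k, hk⟩ := exists_two_pow hT (H.le hx)
        exact eq_one_of_coprime (by rw [hk]; exact Nat.Coprime.pow_left k hv.1.coprime_two_left) hzx hzv
    · rcases eq_or_ne x 1 with rfl | hx1
      · exact Commute.one_left v
      · rw [huniq x hx (Involution.orderOf_of_sq (mem_sq_one hT (H.le hx) hx4) hx1)]
        exact hv.2.symm
  · intro v hv hsv
    by_contra hv1
    have h := hII.cent_eq hv.1 hv1 H.s2 hω hsv.symm hv.2 a
    exact H.not_commute H.sT H.sA ha ha4 (h.2 (H.comm a ha ω hωA)).symm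
  · intro z hz2 hzT hsame
    by_cases hzA : z ∈ A
    · exact huniq z hzA hz2
    · exact absurd ((hsame a).2 (H.comm a ha ω hωA)).symm (H.not_commute hzT hzA ha ha4)

end Shape

end Cfsg.Agent.NormEven
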