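import Cfsg.Agent.Lib.NormEven.Simple
import Cfsg.Agent.Lib.Solvable.Basic

/-!
Reduction to almost simple groups.

* `II.exists_simple_normal` : a non-abelian simple normal subgroup with trivial centralizer
-/

set_option autoImplicit false
set_option linter.style.haveILetI false

open Subgroup

namespace Cfsg.Agent.NormEven

universe u

variable {G : Type u} [Group G] [Finite G]

theorem exists_involution {H : Subgroup G} (h : ¬ Group.IsSolvable H) : ∃ t ∈ H, orderOf t = 2 := by
  haveI : Fact (Nat.Prime 2) := ⟨Nat.prime_two⟩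
  obtain ⟨t, ht⟩ := exists_prime_orderOf_dvd_card' (G := H) 2 (by
    rw [← even_iff_two_dvd, ← Nat.not_odd_iff_even]
    exact fun ho => h (Cfsg.Agent.OddOrderTheorem.solvable ho))
  exact ⟨t, t.2, by rwa [orderOf_coe]⟩

theorem II.isSolvable_of_commute (hII : II G) {H : Subgroup G} {t : G} (ht : orderOf t = 2)
    (hH : ∀ x ∈ H, Commute x t) : Group.IsSolvable H := by
  haveI := hII.isSolvable_cent ht
  exact Group.isSolvable_of_isSolvable_injective (f := Subgroup.inclusion
    (show H ≤ centralizer ({t} : Set G) from fun x hx => mem_centralizer_singleton_iff.2 (hH x hx)))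
    (Subgroup.inclusion_injective _)

theorem II.exists_simple_normal [Nontrivial G] (hII : II G)
    (hss : ∀ N : Subgroup G, N.Normal → Group.IsSolvable ↥N → N = ⊥) :
    ∃ N : Subgroup G, N.Normal ∧ IsSimpleGroup N ∧ ¬ IsMulCommutative N ∧
      centralizer (N : Set G) = ⊥ := by
  classical
  obtain ⟨N, ⟨hNn, hN1⟩, hmin⟩ := (Set.toFinite {H : Subgroup G | H.Normal ∧ H ≠ ⊥}).exists_minimal
    ⟨⊤, inferInstance, top_ne_bot⟩
  haveI := hNn
  have hNns : ¬ Group.IsSolvable N := fun h => hN1 (hss N hNn h)
  haveI : Nontrivial N := (nontrivial_iff_ne_bot N).2 hN1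
  -- the minimal normal subgroups of `N`
  obtain ⟨L, ⟨hLn, hL1⟩, hLmin⟩ := (Set.toFinite {H : Subgroup N | H.Normal ∧ H ≠ ⊥}).exists_minimal
    ⟨⊤, inferInstance, top_ne_bot⟩
  haveI := hLn
  have hconjn : ∀ (g : G) (H : Subgroup N), H.Normal →
      (H.map (MulAut.conjNormal g : MulAut N).toMonoidHom).Normal := fun g H hH =>
    hH.map _ (MulAut.conjNormal g : MulAut N).surjective
  have hLsol : ¬ Group.IsSolvable L := by
    intro hLs
    -- the largest solvable normal subgroup of `N` is normal in `G`
    obtain ⟨R, ⟨hRn, hRs⟩, hRmax⟩ := (Set.toFinite {H : Subgroup N | H.Normal ∧ Group.IsSolvable H}).exists_maximal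
      ⟨L, hLn, hLs⟩
    haveI := hRn; haveI := hRs
    have hall : ∀ H : Subgroup N, H.Normal → Group.IsSolvable H → H ≤ R := fun H hH hHs => by
      haveI := hH; haveI := hHs
      exact le_sup_left.trans (hRmax ⟨Subgroup.sup_normal H R, Solvable.isSolvable_sup H R⟩ le_sup_right)
    have hRG : (R.map N.subtype).Normal := by
      refine ⟨?_⟩
      rintro _ ⟨r, hr, rfl⟩ g
      have hs : Group.IsSolvable (R.map (MulAut.conjNormal g : MulAut N).toMonoidHom) :=
        Group.isSolvable_of_surjective (f := (MulAut.conjNormal g : MulAut N).toMonoidHom.subgroupMap R)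
          (MonoidHom.subgroupMap_surjective _ R)
      exact ⟨(MulAut.conjNormal g : MulAut N) r, hall _ (hconjn g R hRn) hs ⟨r, hr, rfl⟩, rfl⟩
    have hRs' : Group.IsSolvable (R.map N.subtype) :=
      Group.isSolvable_of_surjective (f := N.subtype.subgroupMap R) (MonoidHom.subgroupMap_surjective _ R)
    have hR := (Subgroup.map_eq_bot_iff_of_injective _ N.subtype_injective).1 (hss _ hRG hRs')
    exact hL1 (le_bot_iff.1 (hR ▸ hall L hLn hLs))
  have hLG : (L.map N.subtype).Normal := by
    refine ⟨?_⟩
    rintro _ ⟨l, hl, rfl⟩ g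
    by_contra hnot
    set φ := (MulAut.conjNormal g : MulAut N) with hφ
    set L' := L.map φ.toMonoidHom with hL'
    haveI : L'.Normal := hconjn g L hLn
    have hne : ¬ L' ≤ L := fun h => hnot ⟨φ l, h ⟨l, hl, rfl⟩, rfl⟩
    have hinf : L' ⊓ L = ⊥ := by
      by_contra h
      exact hne (Subgroup.eq_of_le_of_card_ge ((hLmin ⟨inferInstance, h⟩ inf_le_right).trans inf_le_left)
        (le_of_eq (Subgroup.card_map_of_injective φ.injective))).ge
    obtain ⟨t, htL, ht⟩ := exists_involution hLsol
    have hcomm : ∀ x ∈ L', Commute x t := fun x hx =>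
      Subgroup.commute_of_normal_of_disjoint L' L inferInstance inferInstance
        (disjoint_iff.2 hinf) x t hx htL
    haveI : Group.IsSolvable L' := (hII.subgroup N).isSolvable_of_commute ht hcomm
    refine hLsol (Group.isSolvable_of_isSolvable_injective
      (f := ((φ.toMonoidHom.subgroupMap L) : L →* L')) fun a b h => ?_)
    exact Subtype.ext (φ.injective (congrArg Subtype.val h))
  have hLtop : L = ⊤ := by
    have h : N ≤ L.map N.subtype := hmin ⟨hLG, fun h => hL1
      ((Subgroup.map_eq_bot_iff_of_injective _ N.subtype_injective).1 h)⟩ (Subgroup.map_subtype_le L)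
    refine eq_top_iff.2 fun x _ => ?_
    obtain ⟨y, hy, e⟩ := h x.2
    exact (N.subtype_injective e) ▸ hy
  have hsimple : IsSimpleGroup N := ⟨fun H hH => by
    by_cases h1 : H = ⊥
    · exact Or.inl h1
    · exact Or.inr (eq_top_iff.2 (hLtop ▸ hLmin ⟨hH, h1⟩ (hLtop ▸ le_top)))⟩
  refine ⟨N, hNn, hsimple, fun hc => hNns ?_, ?_⟩
  · exact Group.isSolvable_of_comm fun a b => hc.is_comm.comm a b
  · obtain ⟨t, htN, ht⟩ := exists_involution hNns
    refine hss _ inferInstance (hII.isSolvable_of_commute ht fun x hx => ?_)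
    exact (mem_centralizer_iff.1 hx t htN).symm

end Cfsg.Agent.NormEven
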