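import Cfsg.Agent.Lib.NormEven.GenDihedral
import Cfsg.Agent.Lib.NormEven.AbelianTwo
import Cfsg.Agent.Lib.OddOrderTheorem.Basic

/-!
* `II.psl_of_simple` : a non-abelian simple group with uniform even normalizers is `PSL(2, q)`
-/

set_option autoImplicit false
set_option linter.style.haveILetI false

open Subgroup

namespace Cfsg.Agent.NormEven

universe u

theorem II.psl_of_simple {G : Type u} [Group G] [Finite G] [IsSimpleGroup G] (hII : II G)
    (hna : ¬ IsMulCommutative G) : IsPSLTwo G := by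
  haveI : Fact (Nat.Prime 2) := ⟨Nat.prime_two⟩
  obtain ⟨x, hx⟩ : ∃ x : G, orderOf x = 2 := by
    refine exists_prime_orderOf_dvd_card' 2 ?_
    rw [← even_iff_two_dvd, ← Nat.not_odd_iff_even]
    exact fun h => hna ⟨⟨IsSimpleGroup.comm_iff_isSolvable.2 (Cfsg.Agent.OddOrderTheorem.solvable h)⟩⟩
  obtain ⟨T⟩ : Nonempty (Sylow 2 G) := inferInstance
  obtain ⟨g, hg⟩ := exists_conj_involution T hx
  rcases hII.sylow_two_shape hna T with hab | ⟨A, hAT, hAab, h4, s, hsT, hs, hsA, htwo, hout⟩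
  · exact hII.psl_of_abelian hna T hab (by rw [Involution.orderOf_conj, hx]) hg
  · exact Shape.psl (⟨hAT, hAab, h4, hsT, hs, hsA, htwo, hout⟩ : Shape T A s) hII hna

end Cfsg.Agent.NormEven
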