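import Cfsg.Agent.Lib.NormEven.Tools

/-!
A Sylow `2`-subgroup of a simple group whose cyclic subgroups of even order have uniform normalizers
is abelian or generalized dihedral.

* `II.commute_of_four_le` : its elements of order at least `4` commute
* `II.sylow_two_shape`
-/

set_option autoImplicit false
set_option linter.unusedSectionVars false
set_option linter.style.haveILetI false

open Subgroup

namespace Cfsg.Agent.NormEven

universe u

variable {G : Type u} [Group G] [Finite G] [IsSimpleGroup G] (hII : II G)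
include hII

/-- The elements of order at least `4` of a Sylow `2`-subgroup commute. -/
theorem II.commute_of_four_le (hna : ¬ IsMulCommutative G) (T : Sylow 2 G) {a b : G}
    (ha : a ∈ (T : Subgroup G)) (ha4 : 4 ≤ orderOf a) (hb : b ∈ (T : Subgroup G))
    (hb4 : 4 ≤ orderOf b) : Commute a b := by
  by_contra hab
  haveI : Fact (Nat.Prime 2) := ⟨Nat.prime_two⟩
  have hT := T.isPGroup'
  set ω := om a with hωdef
  have hall : ∀ c ∈ (T : Subgroup G), 4 ≤ orderOf c → om c = ω := fun c hc hc4 =>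
    hII.om_eq_of_not_commute hT ha ha4 hb hb4 hab hc hc4
  have hev : ∀ c ∈ (T : Subgroup G), 4 ≤ orderOf c → Even (orderOf c) := fun c hc h4 =>
    even_iff_two_dvd.2 ((show 2 ∣ 4 by norm_num).trans (four_dvd hT hc h4))
  have hω : orderOf ω = 2 := orderOf_om (hev a ha ha4)
  have hωT : ω ∈ (T : Subgroup G) := zpowers_le.2 ha (om_mem a)
  have hcent : ∀ x ∈ (T : Subgroup G), Commute x ω := fun x hx => hII.commute_om hT ha ha4 hx
  -- a conjugate `u ≠ ω` in `T`
  obtain ⟨g, hgT, hgne⟩ : ∃ g : G, g * ω * g⁻¹ ∈ (T : Subgroup G) ∧ g * ω * g⁻¹ ≠ ω := by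
    by_contra h
    push Not at h
    exact isolated_contra hna T hω hωT h
  obtain ⟨u, hu⟩ : ∃ u, u = g * ω * g⁻¹ := ⟨_, rfl⟩
  rw [← hu] at hgT hgne
  have hu2 : orderOf u = 2 := by rw [hu, Involution.orderOf_conj, hω]
  -- the centralizer of `u` in `T` has exponent `2`
  have hsmall : ∀ y ∈ (T : Subgroup G), Commute y u → ¬ 4 ≤ orderOf y := by
    intro y hy hyu hy4
    set y' := g⁻¹ * y * g with hy'
    have hy'ω : Commute y' ω := by
      have := hyu.map (MulAut.conj g⁻¹).toMonoidHom
      simpa [hu, hy', mul_assoc] using this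
    have hp : IsPGroup 2 (zpowers y') := by
      obtain ⟨k, hk⟩ := exists_two_pow hT hy
      refine IsPGroup.of_card (n := k) ?_
      rw [Nat.card_zpowers, hy', show g⁻¹ * y * g = g⁻¹ * y * g⁻¹⁻¹ by group, Involution.orderOf_conj, hk]
    obtain ⟨c, hc, hcT⟩ := exists_conj_cent T hcent hp (fun x hx => by
      obtain ⟨k, rfl⟩ := hx; exact hy'ω.zpow_left k)
    have h1 := hall _ (hcT y' (mem_zpowers y')) (by
      rw [Involution.orderOf_conj, hy', show g⁻¹ * y * g = g⁻¹ * y * g⁻¹⁻¹ by group,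
        Involution.orderOf_conj]; exact hy4)
    rw [om_conj, mul_inv_eq_iff_eq_mul, ← hc.eq] at h1
    have h2 : om y' = ω := mul_left_cancel h1
    rw [hy', show g⁻¹ * y * g = g⁻¹ * y * g⁻¹⁻¹ by group, om_conj, hall y hy hy4] at h2
    refine hgne ?_
    rw [hu]
    calc g * ω * g⁻¹ = g * (g⁻¹ * ω * g⁻¹⁻¹) * g⁻¹ := by rw [h2]
      _ = ω := by group
  -- `u` inverts the elements of order at least `4`
  have hinvert : ∀ x ∈ (T : Subgroup G), 4 ≤ orderOf x → u * x * u = x⁻¹ := by
    intro x hx hx4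
    have huu := Involution.mul_self hu2
    obtain ⟨i, hi⟩ := hII.nm_of_mem hT hx hx4 hgT
    replace hi : x ^ i = u * x * u := by
      have : x ^ i = u * x * u⁻¹ := hi
      rwa [Involution.inv_eq hu2] at this
    set x' := u * x * u with hx'
    have hxx' : Commute x x' := hi ▸ Commute.self_zpow x i
    have hx'T : x' ∈ (T : Subgroup G) := mul_mem (mul_mem hgT hx) hgT
    have hux' : u * x' * u = x := by
      rw [hx', show u * (u * x * u) * u = u * u * x * (u * u) by group, huu, one_mul, mul_one]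
    have hpu : Commute (x * x') u := by
      show x * x' * u = u * (x * x')
      calc x * x' * u = x' * x * u := by rw [hxx'.eq]
        _ = u * x * (u * x * u) := by rw [hx']; group
        _ = u * (x * x') := by rw [hx']; group
    have hp2 : x * x' * (x * x') = 1 :=
      mem_sq_one hT (mul_mem hx hx'T) (hsmall _ (mul_mem hx hx'T) hpu)
    by_contra hne
    have hp1 : x * x' ≠ 1 := fun h => hne (eq_inv_of_mul_eq_one_right h)
    -- `v = x u` has order `4`
    set v := x * u with hv
    have hv2 : v ^ 2 = x * x' := by rw [hv, sq, hx']; group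
    have hvT : v ∈ (T : Subgroup G) := mul_mem hx hgT
    have hv4 : orderOf v = 4 := by
      rw [show 4 = 2 ^ (1 + 1) by norm_num]
      refine orderOf_eq_prime_pow ?_ ?_
      · rw [pow_one, hv2]; exact hp1
      · rw [show 2 ^ (1 + 1) = 2 * 2 by norm_num, pow_mul, hv2, sq, hp2]
    obtain ⟨l, hl⟩ := hII.nm_of_mem hT hvT hv4.ge hgT
    replace hl : v ^ l = u * x := by
      have : v ^ l = u * v * u⁻¹ := hl
      rw [this, hv, Involution.inv_eq hu2, mul_assoc, mul_assoc, huu, mul_one]
    have hvu : Commute v (u * x) := hl ▸ Commute.self_zpow v l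
    have hq : x * x = x' * x' := by
      calc x * x = x * (u * u) * x := by rw [huu, mul_one]
        _ = v * (u * x) := by rw [hv]; group
        _ = u * x * v := hvu.eq
        _ = u * x * (u * u) * x * u := by rw [huu, mul_one, hv]; group
        _ = x' * x' := by rw [hx']; group
    have hxu : Commute (x ^ 2) u := by
      show x ^ 2 * u = u * x ^ 2
      rw [sq]
      calc x * x * u = x' * x' * u := by rw [hq]
        _ = u * x * (u * u) * x * (u * u) := by rw [hx']; group
        _ = u * (x * x) := by rw [huu, mul_one, mul_one, mul_assoc]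
    have hx2 := (om_pow_two (four_dvd hT hx hx4)).1
    have hsm := hsmall _ (pow_mem hx 2) hxu
    have hxo : orderOf x = 4 := by
      obtain ⟨m, hm⟩ := four_dvd hT hx hx4
      obtain ⟨k, hk⟩ := exists_two_pow hT hx
      omega
    have hw : x⁻¹ * x' = 1 ∨ x⁻¹ * x' = om x := by
      rcases eq_or_ne (x⁻¹ * x') 1 with h | h
      · exact Or.inl h
      · refine Or.inr (eq_om (mul_mem (inv_mem (mem_zpowers x)) (hi ▸ zpow_mem (mem_zpowers x) i))
          (Involution.orderOf_of_sq ?_ h))
        calc x⁻¹ * x' * (x⁻¹ * x') = x⁻¹ * (x' * x⁻¹) * x' := by group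
          _ = x⁻¹ * (x⁻¹ * x') * x' := by rw [(hxx'.inv_left).eq]
          _ = (x * x)⁻¹ * (x' * x') := by group
          _ = 1 := by rw [← hq, inv_mul_cancel]
    rcases hw with h | h
    · refine hsmall x hx ?_ hx4
      have hxe : x = x' := inv_mul_eq_one.1 h
      show x * u = u * x
      calc x * u = u * x * u * u := by rw [← hx', ← hxe]
        _ = u * x := by rw [mul_assoc, huu, mul_one]
    · refine hp1 ?_
      rw [inv_mul_eq_iff_eq_mul] at h
      rw [h, om, hxo, ← mul_assoc, ← sq, ← pow_add, show 2 + 4 / 2 = orderOf x by rw [hxo],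
        pow_orderOf_eq_one]
  -- `a * b` and `a * b⁻¹` are involutions
  have huu := Involution.mul_self hu2
  have hcm : ∀ c ∈ (T : Subgroup G), 4 ≤ orderOf c → 4 ≤ orderOf (a * c) → Commute a c := by
    intro c hc hc4 h4
    have h1 := hinvert _ (mul_mem ha hc) h4
    rw [show u * (a * c) * u = u * a * (u * u) * c * u by rw [huu, mul_one]; group,
      show u * a * (u * u) * c * u = (u * a * u) * (u * c * u) by group, hinvert a ha ha4,
      hinvert c hc hc4, mul_inv_rev] at h1
    have h2 := congrArg (·⁻¹) h1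
    simp only [mul_inv_rev, inv_inv] at h2
    exact h2.symm
  have hb1 : (a * b) * (a * b) = 1 := mem_sq_one hT (mul_mem ha hb) fun h => hab (hcm b hb hb4 h)
  have hb2 : (a * b⁻¹) * (a * b⁻¹) = 1 := mem_sq_one hT (mul_mem ha (inv_mem hb)) fun h =>
    hab (Commute.inv_right_iff.1 (hcm b⁻¹ (inv_mem hb) (by rwa [orderOf_inv]) h))
  have hbab : b * a * b = a⁻¹ := eq_inv_of_mul_eq_one_right (by rw [← hb1]; group)
  have hbab' : b⁻¹ * a * b⁻¹ = a⁻¹ := eq_inv_of_mul_eq_one_right (by rw [← hb2]; group)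
  have haba : a * b * a = b⁻¹ := eq_inv_of_mul_eq_one_left (by rw [← hb1]; group)
  have haba' : a * b⁻¹ * a = b := by
    have := eq_inv_of_mul_eq_one_left (show a * b⁻¹ * a * b⁻¹ = 1 by rw [← hb2]; group)
    rwa [inv_inv] at this
  obtain ⟨i, hi⟩ := hII.nm_of_mem hT ha ha4 hb
  obtain ⟨j, hj⟩ := hII.nm_of_mem hT hb hb4 ha
  replace hi : a ^ i = b * a * b⁻¹ := hi
  replace hj : b ^ j = a * b * a⁻¹ := hj
  have hb4' : orderOf b = 4 := by
    have hmem : b * b = a ^ (-i) * a⁻¹ := by
      rw [zpow_neg, hi, ← hbab]; group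
    have hcom : Commute (b * b) a := by
      rw [hmem, ← zpow_neg_one, ← zpow_add]; exact Commute.zpow_self a _
    have h1 : a = b * b * a * (b * b) := by
      calc a = b * (b⁻¹ * a * b⁻¹) * b := by group
        _ = b * (b * a * b) * b := by rw [hbab', hbab]
        _ = b * b * a * (b * b) := by group
    have h2 : b * b * (b * b) = 1 := by
      rw [hcom.eq, mul_assoc] at h1
      exact left_eq_mul.1 h1
    have := Nat.le_of_dvd (by norm_num) (orderOf_dvd_of_pow_eq_one
      (show b ^ 4 = 1 by rw [show 4 = 2 * 2 by norm_num, pow_mul, sq, sq, h2]))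
    omega
  have ha4' : orderOf a = 4 := by
    have hmem : a * a = b ^ (-j) * b⁻¹ := by
      rw [zpow_neg, hj, ← haba]; group
    have hcom : Commute (a * a) b := by
      rw [hmem, ← zpow_neg_one, ← zpow_add]; exact Commute.zpow_self b _
    have h1 : b = a * a * b * (a * a) := by
      calc b = a * b⁻¹ * a := haba'.symm
        _ = a * (a * b * a) * a := by rw [haba]
        _ = a * a * b * (a * a) := by group
    have h2 : a * a * (a * a) = 1 := by
      rw [hcom.eq, mul_assoc] at h1
      exact left_eq_mul.1 h1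
    have := Nat.le_of_dvd (by norm_num) (orderOf_dvd_of_pow_eq_one
      (show a ^ 4 = 1 by rw [show 4 = 2 * 2 by norm_num, pow_mul, sq, sq, h2]))
    omega
  -- hence `b a b⁻¹ = a`
  have h1 : b * b = ω := by rw [← hall b hb hb4, om, hb4', sq]
  have h2 : a * a = ω := by rw [hωdef, om, ha4', sq]
  refine hab ?_
  have h3 : b * a * b⁻¹ = a := by
    calc b * a * b⁻¹ = b * a * b * (b * b)⁻¹ := by group
      _ = a⁻¹ * (a * a)⁻¹ := by rw [hbab, h1, h2]
      _ = a * (a * a * (a * a))⁻¹ := by group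
      _ = a := by rw [h2, Involution.mul_self hω, inv_one, mul_one]
  exact (mul_inv_eq_iff_eq_mul.1 h3).symm

/-- Abelian or generalized dihedral. -/
theorem II.sylow_two_shape (hna : ¬ IsMulCommutative G) (T : Sylow 2 G) :
    (∀ x ∈ (T : Subgroup G), ∀ y ∈ (T : Subgroup G), Commute x y) ∨
    ∃ A : Subgroup G, A ≤ T ∧ (∀ x ∈ A, ∀ y ∈ A, Commute x y) ∧ (∃ a ∈ A, 4 ≤ orderOf a) ∧
      ∃ s ∈ (T : Subgroup G), orderOf s = 2 ∧ s ∉ A ∧ (∀ x ∈ (T : Subgroup G), x ∈ A ∨ x * s ∈ A) ∧
      ∀ x ∈ (T : Subgroup G), x ∉ A → x * x = 1 ∧ ∀ a ∈ A, x * a * x⁻¹ = a⁻¹ := by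
  have hT := T.isPGroup'
  by_cases h4 : ∃ x ∈ (T : Subgroup G), 4 ≤ orderOf x
  swap
  · left
    push Not at h4
    intro x hx y hy
    have hsq : ∀ z ∈ (T : Subgroup G), z⁻¹ = z := fun z hz =>
      inv_eq_of_mul_eq_one_right (mem_sq_one hT hz (not_le.2 (h4 z hz)))
    show x * y = y * x
    calc x * y = (x * y)⁻¹ := (hsq _ (mul_mem hx hy)).symm
      _ = y * x := by rw [mul_inv_rev, hsq x hx, hsq y hy]
  set A : Subgroup G := Subgroup.closure {x | x ∈ (T : Subgroup G) ∧ 4 ≤ orderOf x} with hA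
  have hAT : A ≤ T := (Subgroup.closure_le _).2 fun x hx => hx.1
  have hAab : ∀ x ∈ A, ∀ y ∈ A, Commute x y := by
    intro x hx y hy
    induction hx, hy using Subgroup.closure_induction₂ with
    | mem x y hx hy => exact hII.commute_of_four_le hna T hx.1 hx.2 hy.1 hy.2
    | one_left x hx => exact Commute.one_left x
    | one_right x hx => exact Commute.one_right x
    | mul_left x y z hx hy hz h1 h2 => exact h1.mul_left h2
    | mul_right x y z hx hy hz h1 h2 => exact h1.mul_right h2
    | inv_left x y hx hy h => exact h.inv_left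
    | inv_right x y hx hy h => exact h.inv_right
  obtain ⟨a₀, ha₀T, ha₀⟩ := h4
  have ha₀A : a₀ ∈ A := Subgroup.subset_closure ⟨ha₀T, ha₀⟩
  by_cases hall : ∀ x ∈ (T : Subgroup G), x ∈ A
  · exact Or.inl fun x hx y hy => hAab x (hall x hx) y (hall y hy)
  push Not at hall
  obtain ⟨s, hsT, hsA⟩ := hall
  have hout : ∀ x ∈ (T : Subgroup G), x ∉ A → x * x = 1 := fun x hx hxA =>
    mem_sq_one hT hx fun h => hxA (Subgroup.subset_closure ⟨hx, h⟩)
  have hinv : ∀ x ∈ (T : Subgroup G), x ∉ A → ∀ a ∈ A, x * a * x⁻¹ = a⁻¹ := fun x hx hxA a ha => by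
    have h1 := hout (x * a) (mul_mem hx (hAT ha)) fun h =>
      hxA (by simpa using mul_mem h (inv_mem ha))
    rw [inv_eq_of_mul_eq_one_right (hout x hx hxA)]
    exact eq_inv_of_mul_eq_one_left (by rw [← h1]; group)
  right
  refine ⟨A, hAT, hAab, ⟨a₀, ha₀A, ha₀⟩, s, hsT,
    Involution.orderOf_of_sq (hout s hsT hsA) (fun h => hsA (h ▸ one_mem A)), hsA, fun x hx => ?_,
    fun x hx hxA => ⟨hout x hx hxA, hinv x hx hxA⟩⟩
  by_contra h
  push Not at h
  have hxs := hinv _ (mul_mem hx hsT) h.2 a₀ ha₀A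
  have h1 : x * s * a₀ * (x * s)⁻¹ = a₀ := by
    rw [show x * s * a₀ * (x * s)⁻¹ = x * (s * a₀ * s⁻¹) * x⁻¹ by group, hinv s hsT hsA a₀ ha₀A,
      hinv x hx h.1 _ (inv_mem ha₀A), inv_inv]
  rw [h1] at hxs
  have := Nat.le_of_dvd two_pos (orderOf_dvd_of_pow_eq_one
    (show a₀ ^ 2 = 1 by rw [sq]; exact mul_eq_one_iff_eq_inv.2 hxs))
  omega

end Cfsg.Agent.NormEven
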