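import Cfsg.Agent.Lib.NormEven.Basic

/-!
The `2`-subgroups of a group whose cyclic subgroups of even order have uniform normalizers.

* `om` : the involution in the cyclic group of an element of even order
* `II.commute_om` : for `|g| ≥ 4` in a `2`-subgroup `S`, `om g` is central and `⟨g⟩` is normal in `S`
* `II.om_eq_of_not_commute` : non-commuting elements of order `≥ 4` share their involution with all others
-/

set_option autoImplicit false
set_option linter.unusedSectionVars false
set_option linter.style.haveILetI false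

open Subgroup

namespace Cfsg.Agent.NormEven

variable {G : Type*} [Group G]

/-- The element of order two in `⟨g⟩`, for `g` of even order. -/
noncomputable def om (g : G) : G := g ^ (orderOf g / 2)

theorem om_mem (g : G) : om g ∈ zpowers g := pow_mem (mem_zpowers g) _

theorem om_comm (g : G) : Commute g (om g) := Commute.self_pow g _

theorem orderOf_om [Finite G] {g : G} (h : Even (orderOf g)) : orderOf (om g) = 2 := by
  obtain ⟨m, hm⟩ := h
  have := orderOf_pos g
  rw [om, show orderOf g / 2 = m by omega, orderOf_pow' g (by omega), hm,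
    Nat.gcd_eq_right ⟨2, by omega⟩, show m + m = 2 * m by omega, Nat.mul_div_cancel _ (by omega)]

theorem eq_om [Finite G] {g x : G} (hx : x ∈ zpowers g) (h2 : orderOf x = 2) : x = om g := by
  obtain ⟨k, rfl⟩ := (mem_powers_iff_mem_zpowers (x := g) (y := x)).2 hx
  obtain ⟨m, hm⟩ := h2 ▸ orderOf_dvd_of_mem_zpowers hx
  have hd : orderOf g ∣ k * 2 := orderOf_dvd_of_pow_eq_one (by
    rw [pow_mul, ← orderOf_dvd_iff_pow_eq_one]; exact h2.dvd)
  rw [hm, mul_comm k] at hd
  obtain ⟨i, rfl⟩ := Nat.dvd_of_mul_dvd_mul_left two_pos hd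
  have hom : om g = g ^ m := by rw [om, hm, Nat.mul_div_cancel_left _ two_pos]
  show g ^ (m * i) = om g
  rcases Nat.even_or_odd i with ⟨j, rfl⟩ | ⟨j, rfl⟩
  · exfalso
    refine Involution.ne_one h2 (?_ : g ^ (m * (j + j)) = 1)
    rw [← orderOf_dvd_iff_pow_eq_one, hm]; exact ⟨j, by ring⟩
  · rw [hom, show m * (2 * j + 1) = 2 * m * j + m by ring, pow_add, pow_mul, ← hm, pow_orderOf_eq_one,
      one_pow, one_mul]

theorem om_conj [Finite G] (g x : G) : om (x * g * x⁻¹) = x * om g * x⁻¹ := by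
  rw [om, om, Involution.orderOf_conj, conj_pow]

theorem om_pow_two [Finite G] {g : G} (h : 4 ∣ orderOf g) :
    orderOf (g ^ 2) = orderOf g / 2 ∧ om (g ^ 2) = om g := by
  obtain ⟨m, hm⟩ := h
  have h1 : orderOf (g ^ 2) = orderOf g / 2 := by
    rw [orderOf_pow' g two_ne_zero, Nat.gcd_eq_right ⟨2 * m, by omega⟩]
  refine ⟨h1, ?_⟩
  rw [om, om, h1, ← pow_mul]
  congr 1
  omega

theorem om_inv [Finite G] {g : G} (h : Even (orderOf g)) : om g⁻¹ = om g := by
  refine eq_om ?_ (orderOf_om (by rwa [orderOf_inv]))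
  simpa only [zpowers_inv] using om_mem g⁻¹

/-! ### Elements of a `2`-subgroup -/

variable {S : Subgroup G} (hS : IsPGroup 2 S)
include hS

theorem exists_two_pow {g : G} (hg : g ∈ S) : ∃ k, orderOf g = 2 ^ k := by
  obtain ⟨k, hk⟩ := hS ⟨g, hg⟩
  obtain ⟨l, -, hl⟩ := (Nat.dvd_prime_pow Nat.prime_two).1
    (orderOf_dvd_of_pow_eq_one (congrArg Subtype.val hk : g ^ 2 ^ k = 1))
  exact ⟨l, hl⟩

theorem even_of_mem {g : G} (hg : g ∈ S) (h1 : g ≠ 1) : Even (orderOf g) := by
  obtain ⟨k, hk⟩ := exists_two_pow hS hg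
  rw [hk]
  refine even_two.pow_of_ne_zero fun h0 => h1 (orderOf_eq_one_iff.1 ?_)
  rw [hk, h0, pow_zero]

theorem four_dvd {g : G} (hg : g ∈ S) (h4 : 4 ≤ orderOf g) : 4 ∣ orderOf g := by
  obtain ⟨k, hk⟩ := exists_two_pow hS hg
  rw [hk] at h4 ⊢
  have : 2 ≤ k := by
    by_contra hlt
    have : k = 0 ∨ k = 1 := by omega
    rcases this with rfl | rfl <;> norm_num at h4
  exact (pow_dvd_pow 2 this : 2 ^ 2 ∣ 2 ^ k)

theorem mem_sq_one {g : G} (hg : g ∈ S) (h4 : ¬ 4 ≤ orderOf g) : g * g = 1 := by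
  obtain ⟨k, hk⟩ := exists_two_pow hS hg
  rw [hk] at h4
  have : k < 2 := by
    by_contra hlt
    exact h4 ((show 4 = 2 ^ 2 by norm_num) ▸ Nat.pow_le_pow_right two_pos (by omega))
  rw [← sq, ← orderOf_dvd_iff_pow_eq_one, hk]
  exact (pow_dvd_pow 2 (show k ≤ 1 by omega)).trans (by rw [pow_one])

/-- Cyclic `2`-groups with different involutions meet trivially. -/
theorem trivial_inter [Finite G] {g g' z : G} (hg : g ∈ S) (hne : om g ≠ om g')
    (hz : z ∈ zpowers g) (hz' : z ∈ zpowers g') : z = 1 := by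
  by_contra h1
  have he := orderOf_om (even_of_mem hS (zpowers_le.2 hg hz) h1)
  exact hne ((eq_om (zpowers_le.2 hz (om_mem z)) he).symm.trans (eq_om (zpowers_le.2 hz' (om_mem z)) he))

omit hS in
/-- The involution of a product of commuting elements. -/
theorem om_mul [Finite G] {a b : G} (hc : Commute a b) (hb : orderOf b ∣ orderOf a)
    (ha : ∃ k, orderOf a = 2 ^ k) (hne : om a * b ^ (orderOf a / 2) ≠ 1) :
    orderOf (a * b) = orderOf a ∧ om (a * b) = om a * b ^ (orderOf a / 2) := by
  obtain ⟨k, hk⟩ := ha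
  cases k with
  | zero =>
    exfalso
    refine hne ?_
    rw [pow_zero] at hk
    rw [om, hk]; simp
  | succ k =>
    have hhalf : orderOf a / 2 = 2 ^ k := by rw [hk, pow_succ, Nat.mul_div_cancel _ two_pos]
    rw [om, hhalf] at hne
    have h1 : orderOf (a * b) = orderOf a := by
      rw [hk]
      haveI : Fact (Nat.Prime 2) := ⟨Nat.prime_two⟩
      refine orderOf_eq_prime_pow ?_ ?_
      · rw [hc.mul_pow]; exact hne
      · rw [hc.mul_pow, ← hk, pow_orderOf_eq_one, one_mul, ← orderOf_dvd_iff_pow_eq_one]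
        exact hb
    refine ⟨h1, ?_⟩
    rw [om, h1, hc.mul_pow]; rfl

variable [Finite G] (hII : II G)
include hII

/-- The involution of an element of order at least `4` of a `2`-group is central in it. -/
theorem II.commute_om {g h : G} (hg : g ∈ S) (h4 : 4 ≤ orderOf g) (hh : h ∈ S) : Commute h (om g) := by
  by_contra hcon
  haveI : Fact (Nat.Prime 2) := ⟨Nat.prime_two⟩
  set e := om g with he
  have hge : Even (orderOf g) := even_iff_two_dvd.2 ((show 2 ∣ 4 by norm_num).trans (four_dvd hS hg h4))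
  set C := S ⊓ centralizer ({e} : Set G) with hC
  have hmemC : ∀ {x : G}, x ∈ C ↔ x ∈ S ∧ Commute x e := fun {x} => by
    rw [hC, mem_inf, mem_centralizer_singleton_iff]; rfl
  -- an element of `S ∖ C` normalizing `C`, with square in `C`
  obtain ⟨h₀, hh₀S, hh₀C, hh₀N⟩ : ∃ x ∈ S, x ∉ C ∧ ∀ y ∈ C, x * y * x⁻¹ ∈ C := by
    haveI := hS.isNilpotent
    have hlt := Group.normalizerCondition_of_isNilpotent (C.subgroupOf S) (by
      rw [lt_top_iff_ne_top, Ne, subgroupOf_eq_top]
      exact fun hle => hcon (hmemC.1 (hle hh)).2)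
    obtain ⟨n, hn, hnC⟩ := SetLike.exists_of_lt hlt
    refine ⟨n, n.2, fun h => hnC (mem_subgroupOf.2 h), fun y hy => ?_⟩
    have := (Subgroup.mem_normalizer_iff.1 hn ⟨y, (hmemC.1 hy).1⟩).1 (mem_subgroupOf.2 hy)
    simpa [mem_subgroupOf] using this
  classical
  have hex : ∃ k, h₀ ^ 2 ^ k ∈ C := by
    obtain ⟨k, hk⟩ := exists_two_pow hS hh₀S
    exact ⟨k, by rw [← hk, pow_orderOf_eq_one]; exact C.one_mem⟩
  obtain ⟨k, hk⟩ : ∃ k, Nat.find hex = k + 1 := by
    cases hf : Nat.find hex with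
    | zero =>
      have := Nat.find_spec hex
      rw [hf, pow_zero, pow_one] at this
      exact absurd this hh₀C
    | succ k => exact ⟨k, rfl⟩
  set x := h₀ ^ 2 ^ k with hx
  have hxS : x ∈ S := pow_mem hh₀S _
  have hxC : x ∉ C := Nat.find_min hex (by omega)
  have hx2 : x * x ∈ C := by
    rw [hx, ← pow_two, ← pow_mul, ← pow_succ, ← hk]; exact Nat.find_spec hex
  have hxN : ∀ y ∈ C, x * y * x⁻¹ ∈ C := by
    rw [hx]
    generalize 2 ^ k = m
    induction m with
    | zero => intro y hy; simpa using hy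
    | succ m ih =>
      intro y hy
      have := hh₀N _ (ih y hy)
      rw [pow_succ']
      convert this using 1
      group
  have hgC : g ∈ C := hmemC.2 ⟨hg, om_comm g⟩
  -- the case `(g x) ^ 2 ≠ 1`
  have key : ∀ g : G, g ∈ C → 4 ≤ orderOf g → om g = e →
      g * (x * g * x⁻¹) * (x * x) ≠ 1 → False := by
    intro g hgC h4 hge' hne
    have hg : g ∈ S := (hmemC.1 hgC).1
    have hge : Even (orderOf g) :=
      even_iff_two_dvd.2 ((show 2 ∣ 4 by norm_num).trans (four_dvd hS hg h4))
    set g' := x * g * x⁻¹ with hg'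
    set e' := x * e * x⁻¹ with he'
    have hom' : om g' = e' := by rw [hg', om_conj, hge']
    have hg'C : g' ∈ C := hxN g hgC
    have heC : e ∈ C := hmemC.2 ⟨zpowers_le.2 hg (hge' ▸ om_mem g), Commute.refl e⟩
    have hee' : e' ≠ e := fun h => hxC (hmemC.2 ⟨hxS, mul_inv_eq_iff_eq_mul.1 h⟩)
    have hxe : x * x * e = e * (x * x) := (hmemC.1 hx2).2.eq
    have hgc : Commute g e' := by
      -- `x⁻¹ g x ∈ C`
      have h1 : x * g * x⁻¹ ∈ C := hg'C
      have h2 : x⁻¹ * g * x ∈ C := by
        rw [show x⁻¹ * g * x = (x * x)⁻¹ * (x * g * x⁻¹) * (x * x) by group]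
        exact mul_mem (mul_mem (inv_mem hx2) h1) hx2
      have h3 := (hmemC.1 h2).2.map (MulAut.conj x).toMonoidHom
      simpa [mul_assoc, he'] using h3
    have hg'e : Even (orderOf g') := by rwa [hg', Involution.orderOf_conj]
    have hnm1 : Nm g g' := (hII.nm_iff hge (orderOf_om hge) (om_mem g) (mem_zpowers g)
      (by rintro rfl; simp at h4) g').2 (hge' ▸ (hmemC.1 hg'C).2)
    have hnm2 : Nm g' g := (hII.nm_iff hg'e (orderOf_om hg'e) (om_mem g') (mem_zpowers g')
      (by intro h; rw [h] at hg'e; simp at hg'e) g).2 (hom'.symm ▸ hgc)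
    have hneom : om g ≠ om g' := by rw [hge', hom']; exact fun h => hee' h.symm
    have htriv : ∀ z, z ∈ zpowers g → z ∈ zpowers g' → z = 1 := fun z => trivial_inter hS hg hneom
    have hcomm : Commute g g' := commute_of_nm hnm1 hnm2 htriv
    -- the involution of `g g'`
    have hordeq : orderOf g' = orderOf g := Involution.orderOf_conj x g
    have hpow : g' ^ (orderOf g / 2) = e' := by rw [← hom', om, hordeq]
    have hne1 : om g * g' ^ (orderOf g / 2) ≠ 1 := by
      rw [hge', hpow, Ne, mul_eq_one_iff_eq_inv, Involution.inv_eq]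
      · exact fun h => hee' h.symm
      · rw [← hom']; exact orderOf_om hg'e
    obtain ⟨hgg, hgg'⟩ := om_mul hcomm (dvd_of_eq hordeq) (exists_two_pow hS hg) hne1
    rw [hge', hpow] at hgg'
    have hxf : Commute x (e * e') := by
      show x * (e * e') = e * e' * x
      have h1 : x * e' = e * x := by
        rw [he', show x * (x * e * x⁻¹) = x * x * e * x⁻¹ by group, hxe]; group
      have h2 : x * e = e' * x := by rw [he']; group
      have h3 : Commute e' e := (hmemC.1 (hxN e heC)).2
      rw [← mul_assoc, h2, mul_assoc, h1, ← mul_assoc, h3.eq]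
    have hnm3 : Nm (g * g') x := by
      have hev : Even (orderOf (g * g')) := hgg.symm ▸ hge
      refine (hII.nm_iff hev (orderOf_om hev) (om_mem _) (mem_zpowers _) ?_ x).2 (hgg'.symm ▸ hxf)
      intro h
      rw [h] at hev
      simp at hev
    -- `x ^ 2` centralizes `g`
    have hxx : x * g' * x⁻¹ = g := by
      have hconj : x * g' * x⁻¹ ∈ zpowers g := by
        rw [hg', show x * (x * g * x⁻¹) * x⁻¹ = x * x * g * (x * x)⁻¹ by group]
        exact (hII.nm_iff hge (orderOf_om hge) (om_mem g) (mem_zpowers g)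
          (by rintro rfl; simp at h4) (x * x)).2 (hge' ▸ (hmemC.1 hx2).2)
      obtain ⟨j, hj⟩ := hconj
      replace hj : g ^ j = x * g' * x⁻¹ := hj
      obtain ⟨l, hl⟩ := hnm3
      replace hl : (g * g') ^ l = g' * g ^ j := by
        rw [show (g * g') ^ l = x * (g * g') * x⁻¹ from hl, hj, hg']; group
      rw [hcomm.mul_zpow] at hl
      have h1 : g ^ (j - l) = g' ^ (l - 1) := by
        have e1 : g' * g ^ j = g ^ j * g' := (hcomm.symm.zpow_right j).eq
        rw [e1] at hl
        rw [zpow_sub, zpow_sub, zpow_one, ← mul_inv_eq_one]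
        calc g ^ j * (g ^ l)⁻¹ * (g' ^ l * g'⁻¹)⁻¹
            = g ^ j * (g ^ l)⁻¹ * (g' * (g' ^ l)⁻¹) := by group
          _ = g ^ j * ((g ^ l)⁻¹ * g') * (g' ^ l)⁻¹ := by group
          _ = g ^ j * g' * (g ^ l * g' ^ l)⁻¹ := by
              rw [((hcomm.zpow_left l).inv_left).eq,
                show ((g ^ l * g' ^ l : G))⁻¹ = (g ^ l)⁻¹ * (g' ^ l)⁻¹ by
                  rw [(hcomm.zpow_zpow l l).eq, mul_inv_rev]]
              group
          _ = 1 := by rw [hl, mul_inv_cancel]
      have h2 := htriv _ ⟨j - l, rfl⟩ ⟨l - 1, h1.symm⟩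
      have h4' : (orderOf g : ℤ) ∣ j - l := orderOf_dvd_iff_zpow_eq_one.2 h2
      have h5 : (orderOf g' : ℤ) ∣ l - 1 := orderOf_dvd_iff_zpow_eq_one.2 (h1 ▸ h2)
      rw [hordeq] at h5
      rw [← hj, ← zpow_one g, ← zpow_mul, one_mul]
      exact orderOf_dvd_sub_iff_zpow_eq_zpow.1 (by
        rw [show j - 1 = (j - l) + (l - 1) by ring]; exact dvd_add h4' h5)
    -- `g` normalizes `⟨g x⟩`
    set y := g * x with hy
    have hy2 : y * y = g * g' * (x * x) := by rw [hy, hg']; group
    have hyS : y ∈ S := mul_mem hg hxS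
    have hy1 : y ≠ 1 := by
      intro h
      exact hne (by rw [← hy2, h, one_mul])
    have hgx2 : Commute g (x * x) := by
      have h1 : x * x * g = g * (x * x) := by
        calc x * x * g = x * (x * g * x⁻¹) * x⁻¹ * (x * x) := by group
          _ = g * (x * x) := by rw [← hg', hxx]
      exact h1.symm
    have hgy2 : Commute g (y * y) := by
      rw [hy2]; exact ((Commute.refl g).mul_right hcomm).mul_right hgx2
    have hnmy : g * y * g⁻¹ ∈ zpowers y :=
      (hII y (y * y) (even_of_mem hS hyS hy1) (mul_mem (mem_zpowers y) (mem_zpowers y))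
        (hy2 ▸ hne) g).2 (nm_of_commute hgy2)
    set z := g * g'⁻¹ with hzdef
    have hz : g * y * g⁻¹ * y⁻¹ = z := by
      rw [hzdef, hy]
      calc g * (g * x) * g⁻¹ * (g * x)⁻¹ = g * (g * ((x * g * x⁻¹)⁻¹ * g⁻¹)) := by group
        _ = g * (g * (g⁻¹ * g'⁻¹)) := by rw [← hg', (hcomm.inv_inv).eq]
        _ = g * g'⁻¹ := by group
    have hzy : z ∈ zpowers y := hz ▸ mul_mem hnmy (inv_mem (mem_zpowers y))
    obtain ⟨m, hm⟩ := hzy
    replace hm : y ^ m = z := hm
    have hyC : y ∉ C := fun h => hxC (by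
      rw [show x = g⁻¹ * y by rw [hy]; group]; exact mul_mem (inv_mem hgC) h)
    have hy2C : y * y ∈ C := hy2 ▸ mul_mem (mul_mem hgC hg'C) hx2
    rcases Int.even_or_odd m with ⟨l, rfl⟩ | ⟨l, rfl⟩
    · -- `x` fixes `z`
      rw [zpow_add, ← (Commute.refl y).mul_zpow] at hm
      have hfix : Commute x (y * y) := by
        show x * (y * y) = y * y * x
        rw [hy2]
        calc x * (g * g' * (x * x)) = (x * g * x⁻¹) * (x * g' * x⁻¹) * (x * x) * x := by group
          _ = g * g' * (x * x) * x := by rw [hxx, ← hg', hcomm.eq]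
      have hxz : x * z * x⁻¹ = z := by
        rw [← hm, (hfix.zpow_right l).eq, mul_inv_cancel_right]
      have hsq : g * g = g' * g' := by
        have h1 : g' * g⁻¹ = g * g'⁻¹ := by
          calc g' * g⁻¹ = (x * g * x⁻¹) * (x * g' * x⁻¹)⁻¹ := by rw [hxx, hg']
            _ = x * z * x⁻¹ := by rw [hzdef]; group
            _ = g * g'⁻¹ := hxz
        calc g * g = g * g'⁻¹ * (g' * g) := by group
          _ = g' * g⁻¹ * (g * g') := by rw [h1, hcomm.eq]
          _ = g' * g' := by group
      have h2 := htriv (g * g) (mul_mem (mem_zpowers g) (mem_zpowers g))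
        (hsq ▸ mul_mem (mem_zpowers g') (mem_zpowers g'))
      have := Nat.le_of_dvd two_pos (orderOf_dvd_of_pow_eq_one ((sq g).trans h2))
      omega
    · refine hyC ?_
      rw [zpow_add_one, zpow_mul, zpow_two] at hm
      rw [show y = ((y * y) ^ l)⁻¹ * z by rw [← hm]; group]
      exact mul_mem (inv_mem (zpow_mem hy2C l)) (mul_mem hgC (inv_mem hg'C))
  by_cases hne : g * (x * g * x⁻¹) * (x * x) = 1
  · refine key g⁻¹ (inv_mem hgC) (by rwa [orderOf_inv]) (om_inv hge) fun h => ?_
    -- otherwise `(g g')² = 1`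
    have hgg' : (g * (x * g * x⁻¹)) = g⁻¹ * (x * g⁻¹ * x⁻¹) := by
      have h1 := mul_eq_one_iff_eq_inv.1 hne
      have h2 := mul_eq_one_iff_eq_inv.1 h
      rw [h1, h2]
    have hg'C : x * g * x⁻¹ ∈ C := hxN g hgC
    have hsq : g * g = (x * g⁻¹ * x⁻¹) * (x * g⁻¹ * x⁻¹) := by
      calc g * g = g * (g * (x * g * x⁻¹)) * (x * g⁻¹ * x⁻¹) := by group
        _ = g * (g⁻¹ * (x * g⁻¹ * x⁻¹)) * (x * g⁻¹ * x⁻¹) := by rw [hgg']
        _ = _ := by group
    have hgi : om (x * g⁻¹ * x⁻¹) ≠ om g := by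
      rw [om_conj, om_inv hge]
      exact fun h => hxC (hmemC.2 ⟨hxS, mul_inv_eq_iff_eq_mul.1 h⟩)
    have h3 := trivial_inter hS hg (Ne.symm hgi) (mul_mem (mem_zpowers g) (mem_zpowers g))
      (hsq ▸ mul_mem (mem_zpowers _) (mem_zpowers _))
    have := Nat.le_of_dvd two_pos (orderOf_dvd_of_pow_eq_one ((sq g).trans h3))
    omega
  · exact key g hgC h4 rfl hne

theorem II.nm_of_mem {g h : G} (hg : g ∈ S) (h4 : 4 ≤ orderOf g) (hh : h ∈ S) : Nm g h := by
  have hge : Even (orderOf g) := even_iff_two_dvd.2 ((show 2 ∣ 4 by norm_num).trans (four_dvd hS hg h4))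
  exact (hII.nm_iff hge (orderOf_om hge) (om_mem g) (mem_zpowers g)
    (by rintro rfl; simp at h4) h).2 (hII.commute_om hS hg h4 hh)

theorem II.om_eq_om {a b : G} (ha : a ∈ S) (ha4 : 4 ≤ orderOf a) (hb : b ∈ S) (hb4 : 4 ≤ orderOf b)
    (hab : ¬ Commute a b) : om a = om b := by
  by_contra hne
  exact hab (commute_of_nm (hII.nm_of_mem hS ha ha4 hb) (hII.nm_of_mem hS hb hb4 ha)
    fun z => trivial_inter hS ha hne)

/-- No non-commuting pair centralizes an element of order at least `4` with another involution. -/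
theorem II.om_eq_of_not_commute {a b c : G} (ha : a ∈ S) (ha4 : 4 ≤ orderOf a) (hb : b ∈ S)
    (hb4 : 4 ≤ orderOf b) (hab : ¬ Commute a b) (hc : c ∈ S) (hc4 : 4 ≤ orderOf c) : om c = om a := by
  by_contra hcne
  have hac : Commute a c := by
    by_contra h
    exact hcne (hII.om_eq_om hS ha ha4 hc hc4 h).symm
  have hbc : Commute b c := by
    by_contra h
    exact hcne (((hII.om_eq_om hS hb hb4 hc hc4 h).symm).trans (hII.om_eq_om hS ha ha4 hb hb4 hab).symm)
  have hce : Even (orderOf c) :=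
    even_iff_two_dvd.2 ((show 2 ∣ 4 by norm_num).trans (four_dvd hS hc hc4))
  have small : ∀ a y : G, a ∈ S → 4 ≤ orderOf a → y ∈ S → Commute a c → Commute y c →
      ¬ Commute a y → om a ≠ om c → orderOf c < orderOf y := by
    intro a y ha ha4 hy hac hyc hay hne
    by_contra hle
    push Not at hle
    obtain ⟨i, hi⟩ := exists_two_pow hS hy
    obtain ⟨j, hj⟩ := exists_two_pow hS hc
    have hij : i ≤ j := by
      rw [hi, hj] at hle; exact (Nat.pow_le_pow_iff_right one_lt_two).1 hle
    have hd : orderOf y ∣ orderOf c := by rw [hi, hj]; exact pow_dvd_pow 2 hij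
    have hcy : y ^ (orderOf c / 2) = 1 ∨ y ^ (orderOf c / 2) = om a := by
      rcases Nat.lt_or_ge i j with hlt | hge
      · left
        rw [← orderOf_dvd_iff_pow_eq_one, hi, hj]
        obtain ⟨j', rfl⟩ : ∃ j', j = j' + 1 := ⟨j - 1, by omega⟩
        rw [pow_succ, Nat.mul_div_cancel _ two_pos]
        exact pow_dvd_pow 2 (by omega)
      · right
        have hyo : orderOf y = orderOf c := by rw [hi, hj, show i = j by omega]
        rw [← hyo]
        exact (hII.om_eq_om hS ha ha4 hy (hyo ▸ hc4) hay).symm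
    have hne1 : om c * y ^ (orderOf c / 2) ≠ 1 := by
      rcases hcy with h | h <;> rw [h]
      · rw [mul_one]; exact Involution.ne_one (orderOf_om hce)
      · intro h1
        refine hne ?_
        rw [mul_eq_one_iff_inv_eq, Involution.inv_eq (orderOf_om hce)] at h1
        exact h1.symm
    obtain ⟨h1, h2⟩ := om_mul hyc.symm hd (exists_two_pow hS hc) hne1
    refine hay ?_
    have hacy : Commute a (c * y) := by
      by_contra h
      have h3 := hII.om_eq_om hS ha ha4 (mul_mem hc hy) (h1.symm ▸ hc4) h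
      rw [h2] at h3
      rcases hcy with h4 | h4 <;> rw [h4] at h3
      · exact hne (by simpa using h3)
      · exact Involution.ne_one (orderOf_om hce) (by simpa using h3)
    simpa [← mul_assoc] using hac.inv_right.mul_right hacy
  suffices key : ∀ N : ℕ, ∀ a y : G, a ∈ S → 4 ≤ orderOf a → y ∈ S → Commute a c → Commute y c →
      ¬ Commute a y → om a ≠ om c → orderOf a + orderOf y = N → False from
    key _ a b ha ha4 hb hac hbc hab (fun h => hcne h.symm) rfl
  intro N
  induction N using Nat.strong_induction_on with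
  | _ N IH =>
  intro a y ha ha4 hy hac hyc hay hne hN
  have hylt := small a y ha ha4 hy hac hyc hay hne
  have hy4 : 4 ≤ orderOf y := by omega
  have hoy : om a = om y := hII.om_eq_om hS ha ha4 hy hy4 hay
  -- put the larger order first
  wlog hle : orderOf y ≤ orderOf a generalizing a y
  · refine this y a hy hy4 ha hyc hac (fun h => hay h.symm) (hoy ▸ hne) (by omega)
      (small y a hy hy4 ha hyc hac (fun h => hay h.symm) (hoy ▸ hne)) ha4 hoy.symm
      (le_of_not_ge hle)
  have ha8 : 4 ∣ orderOf a ∧ 8 ≤ orderOf a ∧ 8 ≤ orderOf y := by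
    refine ⟨four_dvd hS ha ha4, ?_, ?_⟩ <;>
    · obtain ⟨i, hi⟩ := exists_two_pow hS hy
      have : 2 < i := by
        by_contra h
        have := Nat.pow_le_pow_right two_pos (not_lt.1 h)
        omega
      have := Nat.pow_le_pow_right two_pos this
      omega
  obtain ⟨ha4', ha8, hy8⟩ := ha8
  obtain ⟨hsq, homsq⟩ := om_pow_two ha4'
  have hcom2 : Commute (a ^ 2) y := by
    by_contra h
    exact IH (orderOf (a ^ 2) + orderOf y) (by rw [hsq]; omega) (a ^ 2) y (pow_mem ha 2)
      (by rw [hsq]; omega) hy (hac.pow_left 2) hyc h (homsq.symm ▸ hne) rfl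
  set z := y * a * y⁻¹ * a⁻¹ with hz
  have hzmem : z ∈ zpowers a := mul_mem (hII.nm_of_mem hS ha ha4 hy) (inv_mem (mem_zpowers a))
  have hza : Commute z a := by
    obtain ⟨k, hk⟩ := hzmem
    rw [← show a ^ k = z from hk]; exact (Commute.refl a).zpow_left k
  have hzw : z = om a := by
    refine eq_om hzmem (Involution.orderOf_of_sq ?_ fun h => hay ?_)
    · have h1 : (z * a) * (z * a) = a * a := by
        rw [show z * a = y * a * y⁻¹ by rw [hz]; group,
          show y * a * y⁻¹ * (y * a * y⁻¹) = y * (a ^ 2) * y⁻¹ by rw [sq]; group, hcom2.eq.symm,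
          mul_inv_cancel_right, sq]
      rw [show z * a * (z * a) = z * (a * z) * a by group, ← hza.eq] at h1
      calc z * z = z * (z * a) * a * (a * a)⁻¹ := by group
        _ = 1 := by rw [h1, mul_inv_cancel]
    · rw [hz, mul_inv_eq_one, mul_inv_eq_iff_eq_mul] at h
      exact h.symm
  set w := om a with hw
  have hwy : Commute w y := (hII.commute_om hS ha ha4 hy).symm
  have hwa : Commute w a := (om_comm a).symm
  -- replace `y` by an element of smaller order
  obtain ⟨i, hi⟩ := exists_two_pow hS ha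
  obtain ⟨m, hm⟩ := exists_two_pow hS hy
  have hmi : m ≤ i := by rw [hi, hm] at hle; exact (Nat.pow_le_pow_iff_right one_lt_two).1 hle
  obtain ⟨m', rfl⟩ : ∃ m', m = m' + 3 := by
    refine ⟨m - 3, ?_⟩
    rw [hm] at hy8
    have : 3 ≤ m := by
      by_contra h
      have := Nat.pow_le_pow_right two_pos (show m ≤ 2 by omega)
      omega
    omega
  set j := 2 ^ (i - (m' + 3)) with hj
  set n := 2 ^ (m' + 2) with hn
  have hrel : ∀ l : ℕ, y * a ^ l = w ^ l * a ^ l * y := by
    intro l
    have h1 : y * a * y⁻¹ = w * a := by rw [← hzw, hz]; group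
    have h2 : y * a ^ l * y⁻¹ = w ^ l * a ^ l := by rw [← conj_pow, h1, hwa.mul_pow]
    rw [← h2]; group
  have hb : (a ^ j * y) ^ n = 1 := by
    rw [Hamiltonian.mul_pow_eq (hrel j) (hwy.pow_left j) ((hwa.pow_left j).pow_right j), ← pow_mul,
      ← pow_mul]
    have e1 : j * n = orderOf a / 2 := by
      rw [hj, hn, hi, ← pow_add]
      obtain ⟨i', rfl⟩ : ∃ i', i = i' + 1 := ⟨i - 1, by omega⟩
      rw [pow_succ 2 i', Nat.mul_div_cancel _ two_pos]
      congr 1; omega
    have e2 : n = orderOf y / 2 := by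
      rw [hn, hm, pow_succ 2 (m' + 2), Nat.mul_div_cancel _ two_pos]
    have e3 : 2 ∣ n.choose 2 := by
      rw [Nat.choose_two_right, hn, show 2 ^ (m' + 2) = 2 * (2 ^ (m' + 1)) by ring,
        mul_assoc, Nat.mul_div_cancel_left _ two_pos, pow_succ]
      exact (dvd_mul_left 2 _).mul_right _
    have e4 : w ^ (j * n.choose 2) = 1 := by
      obtain ⟨d, hd⟩ := e3
      rw [hd, mul_left_comm, pow_mul, sq, Involution.mul_self (orderOf_om ?_), one_pow]
      exact even_iff_two_dvd.2 ((show 2 ∣ 4 by norm_num).trans ha4')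
    rw [e4, one_mul, e1, e2]
    change w * om y = 1
    rw [← hoy]
    exact Involution.mul_self (orderOf_om (even_iff_two_dvd.2 ((show 2 ∣ 4 by norm_num).trans ha4')))
  refine IH (orderOf a + orderOf (a ^ j * y)) ?_ a (a ^ j * y) ha ha4 (mul_mem (pow_mem ha j) hy) hac
    ((hac.pow_left j).mul_left hyc) (fun h => hay ?_) hne rfl
  · have := Nat.le_of_dvd (by positivity) (orderOf_dvd_of_pow_eq_one hb)
    have : n < orderOf y := by rw [hn, hm]; exact Nat.pow_lt_pow_right one_lt_two (by omega)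
    omega
  · simpa [← mul_assoc] using ((Commute.refl a).pow_right j).inv_right.mul_right h

end Cfsg.Agent.NormEven
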